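import Mathlib
import Cfsg.Agent.Helper9.Co2O.BrData

set_option autoImplicit false
set_option Elab.async false

/-! Kernel checks of the bridge, a part. -/

noncomputable section

namespace Cfsg.Agent.Helper9.Co2O

open Cfsg.Agent.Helper9.OutG Cfsg.Agent.Helper9.LeechAct Cfsg.Agent.Helper9.J3

set_option maxRecDepth 1000000 in
theorem br_hlin_0 : allC (linChk dD dBr dLn) 0 575 = true := by decide +kernel

set_option maxRecDepth 1000000 in
theorem br_hlin_1 : allC (linChk dD dBr dLn) 1 575 = true := by decide +kernel

set_option maxRecDepth 1000000 in
theorem br_hlin_2 : allC (linChk dD dBr dLn) 2 575 = true := by decide +kernel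

set_option maxRecDepth 1000000 in
theorem br_hlin_3 : allC (linChk dD dBr dLn) 3 575 = true := by decide +kernel

set_option maxRecDepth 1000000 in
theorem br_hlin_4 : allC (linChk dD dBr dLn) 4 575 = true := by decide +kernel

set_option maxRecDepth 1000000 in
theorem br_hlin_5 : allC (linChk dD dBr dLn) 5 575 = true := by decide +kernel

set_option maxRecDepth 1000000 in
theorem br_hlin_6 : allC (linChk dD dBr dLn) 6 575 = true := by decide +kernel

set_option maxRecDepth 1000000 in
theorem br_hlin_7 : allC (linChk dD dBr dLn) 7 575 = true := by decide +kernel

set_option maxRecDepth 1000000 in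
theorem br_hlin_8 : allC (linChk dD dBr dLn) 8 575 = true := by decide +kernel

set_option maxRecDepth 1000000 in
theorem br_hlin_9 : allC (linChk dD dBr dLn) 9 575 = true := by decide +kernel

set_option maxRecDepth 1000000 in
theorem br_hlin_10 : allC (linChk dD dBr dLn) 10 575 = true := by decide +kernel

set_option maxRecDepth 1000000 in
theorem br_hlin_11 : allC (linChk dD dBr dLn) 11 575 = true := by decide +kernel

set_option maxRecDepth 1000000 in
theorem br_hlin_12 : allC (linChk dD dBr dLn) 12 575 = true := by decide +kernel

set_option maxRecDepth 1000000 in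
theorem br_hlin_13 : allC (linChk dD dBr dLn) 13 575 = true := by decide +kernel

set_option maxRecDepth 1000000 in
theorem br_hlin_14 : allC (linChk dD dBr dLn) 14 575 = true := by decide +kernel

set_option maxRecDepth 1000000 in
theorem br_hlin_15 : allC (linChk dD dBr dLn) 15 575 = true := by decide +kernel

set_option maxRecDepth 1000000 in
theorem br_hlin_16 : allC (linChk dD dBr dLn) 16 575 = true := by decide +kernel

set_option maxRecDepth 1000000 in
theorem br_hlin_17 : allC (linChk dD dBr dLn) 17 575 = true := by decide +kernel

set_option maxRecDepth 1000000 in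
theorem br_hlin_18 : allC (linChk dD dBr dLn) 18 575 = true := by decide +kernel

set_option maxRecDepth 1000000 in
theorem br_hlin_19 : allC (linChk dD dBr dLn) 19 575 = true := by decide +kernel

set_option maxRecDepth 1000000 in
theorem br_hlin_20 : allC (linChk dD dBr dLn) 20 575 = true := by decide +kernel

set_option maxRecDepth 1000000 in
theorem br_hlin_21 : allC (linChk dD dBr dLn) 21 575 = true := by decide +kernel

set_option maxRecDepth 1000000 in
theorem br_hlin_22 : allC (linChk dD dBr dLn) 22 575 = true := by decide +kernel

set_option maxRecDepth 1000000 in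
theorem br_hlin_23 : allC (linChk dD dBr dLn) 23 575 = true := by decide +kernel

set_option maxRecDepth 1000000 in
theorem br_hlin_24 : allC (linChk dD dBr dLn) 24 575 = true := by decide +kernel

end Cfsg.Agent.Helper9.Co2O

end
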