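import Mathlib
import Cfsg.Agent.Helper9.Co2O.BrData

set_option autoImplicit false
set_option Elab.async false

/-! Kernel checks of the bridge, a part. -/

noncomputable section

namespace Cfsg.Agent.Helper9.Co2O

open Cfsg.Agent.Helper9.OutG Cfsg.Agent.Helper9.LeechAct Cfsg.Agent.Helper9.J3

set_option maxRecDepth 1000000 in
theorem br_hlin_25 : allC (linChk dD dBr dLn) 25 575 = true := by decide +kernel

set_option maxRecDepth 1000000 in
theorem br_hlin_26 : allC (linChk dD dBr dLn) 26 575 = true := by decide +kernel

set_option maxRecDepth 1000000 in
theorem br_hlin_27 : allC (linChk dD dBr dLn) 27 575 = true := by decide +kernel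

set_option maxRecDepth 1000000 in
theorem br_hlin_28 : allC (linChk dD dBr dLn) 28 575 = true := by decide +kernel

set_option maxRecDepth 1000000 in
theorem br_hlin_29 : allC (linChk dD dBr dLn) 29 575 = true := by decide +kernel

set_option maxRecDepth 1000000 in
theorem br_hlin_30 : allC (linChk dD dBr dLn) 30 575 = true := by decide +kernel

set_option maxRecDepth 1000000 in
theorem br_hlin_31 : allC (linChk dD dBr dLn) 31 575 = true := by decide +kernel

end Cfsg.Agent.Helper9.Co2O

end
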