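import Mathlib
import Cfsg.Agent.Helper9.Co2O.BrData
import Cfsg.Agent.Helper9.Co2O.BrA0
import Cfsg.Agent.Helper9.Co2O.BrA1

set_option autoImplicit false
set_option Elab.async false

/-! Kernel checks of the bridge. -/

noncomputable section

namespace Cfsg.Agent.Helper9.Co2O

open Cfsg.Agent.Helper9.OutG Cfsg.Agent.Helper9.LeechAct Cfsg.Agent.Helper9.J3

set_option maxRecDepth 1000000 in
theorem br_hlet : dBr.lws.all (fun w => w.all letOK) = true := by decide +kernel

set_option maxRecDepth 1000000 in
theorem br_hcol : allB (colChk dBr dLn) dD.L = true := by decide +kernel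

set_option maxRecDepth 1000000 in
theorem br_hfix : (List.range dD.L).all (fun l => dFix.all (fun f => wordL (nthLW dBr.lws l) f == f)) = true := by decide +kernel

set_option maxRecDepth 1000000 in
theorem br_htree_b : allB (treeChk dD dBr) dD.n = true := by decide +kernel

set_option maxRecDepth 1000000 in
theorem br_hsrt_b : allB (srtChk dBr) (dD.n - 1) = true := by decide +kernel

theorem br_hlin : ∀ v < dD.L * dD.n, linChk dD dBr dLn v = true := by
  intro v hv
  have h2 : dD.L * dD.n = 32 * 575 := by decide
  rw [h2] at hv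
  refine allC_true (K := 32) (c := 575) ?_ hv
  intro i hi
  interval_cases i
  · exact br_hlin_0
  · exact br_hlin_1
  · exact br_hlin_2
  · exact br_hlin_3
  · exact br_hlin_4
  · exact br_hlin_5
  · exact br_hlin_6
  · exact br_hlin_7
  · exact br_hlin_8
  · exact br_hlin_9
  · exact br_hlin_10
  · exact br_hlin_11
  · exact br_hlin_12
  · exact br_hlin_13
  · exact br_hlin_14
  · exact br_hlin_15
  · exact br_hlin_16
  · exact br_hlin_17
  · exact br_hlin_18
  · exact br_hlin_19
  · exact br_hlin_20
  · exact br_hlin_21
  · exact br_hlin_22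
  · exact br_hlin_23
  · exact br_hlin_24
  · exact br_hlin_25
  · exact br_hlin_26
  · exact br_hlin_27
  · exact br_hlin_28
  · exact br_hlin_29
  · exact br_hlin_30
  · exact br_hlin_31

theorem brOK : BrLOK dD dBr dLn dFix :=
  ⟨br_hlet, fun _ hl => allB_true br_hcol hl, br_hlin, br_hfix, fun _ hi => allB_true br_htree_b hi,
    fun _ hi => allB_true br_hsrt_b hi⟩

end Cfsg.Agent.Helper9.Co2O

end
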