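import Mathlib
import Cfsg.Agent.Helper9.Co2O.Data

set_option autoImplicit false
set_option Elab.async false

/-! Kernel checks of the certificates, a part. -/

noncomputable section

namespace Cfsg.Agent.Helper9.Co2O

open Cfsg.Agent.Helper9.OutG Cfsg.Agent.Helper9.J3

set_option maxRecDepth 1000000 in
theorem tab_b_0 : allC (tabChk dD) 0 1 = true := by decide +kernel

set_option maxRecDepth 1000000 in
theorem tab_b_1 : allC (tabChk dD) 1 1 = true := by decide +kernel

set_option maxRecDepth 1000000 in
theorem tab_b_2 : allC (tabChk dD) 2 1 = true := by decide +kernel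

set_option maxRecDepth 1000000 in
theorem tab_b_3 : allC (tabChk dD) 3 1 = true := by decide +kernel

set_option maxRecDepth 1000000 in
theorem tab_b_4 : allC (tabChk dD) 4 1 = true := by decide +kernel

set_option maxRecDepth 1000000 in
theorem tab_b_5 : allC (tabChk dD) 5 1 = true := by decide +kernel

set_option maxRecDepth 1000000 in
theorem tab_b_6 : allC (tabChk dD) 6 1 = true := by decide +kernel

set_option maxRecDepth 1000000 in
theorem tab_b_7 : allC (tabChk dD) 7 1 = true := by decide +kernel

set_option maxRecDepth 1000000 in
theorem tab_b_8 : allC (tabChk dD) 8 1 = true := by decide +kernel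

set_option maxRecDepth 1000000 in
theorem tab_b_9 : allC (tabChk dD) 9 1 = true := by decide +kernel

set_option maxRecDepth 1000000 in
theorem tab_b_10 : allC (tabChk dD) 10 1 = true := by decide +kernel

set_option maxRecDepth 1000000 in
theorem tab_b_11 : allC (tabChk dD) 11 1 = true := by decide +kernel

set_option maxRecDepth 1000000 in
theorem tab_b_12 : allC (tabChk dD) 12 1 = true := by decide +kernel

set_option maxRecDepth 1000000 in
theorem tab_b_13 : allC (tabChk dD) 13 1 = true := by decide +kernel

set_option maxRecDepth 1000000 in
theorem tab_b_14 : allC (tabChk dD) 14 1 = true := by decide +kernel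

set_option maxRecDepth 1000000 in
theorem tab_b_15 : allC (tabChk dD) 15 1 = true := by decide +kernel

set_option maxRecDepth 1000000 in
theorem tab_b_16 : allC (tabChk dD) 16 1 = true := by decide +kernel

set_option maxRecDepth 1000000 in
theorem tab_b_17 : allC (tabChk dD) 17 1 = true := by decide +kernel

set_option maxRecDepth 1000000 in
theorem tab_b_18 : allC (tabChk dD) 18 1 = true := by decide +kernel

set_option maxRecDepth 1000000 in
theorem tab_b_19 : allC (tabChk dD) 19 1 = true := by decide +kernel

set_option maxRecDepth 1000000 in
theorem tab_b_20 : allC (tabChk dD) 20 1 = true := by decide +kernel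

set_option maxRecDepth 1000000 in
theorem tab_b_21 : allC (tabChk dD) 21 1 = true := by decide +kernel

set_option maxRecDepth 1000000 in
theorem tab_b_22 : allC (tabChk dD) 22 1 = true := by decide +kernel

set_option maxRecDepth 1000000 in
theorem tab_b_23 : allC (tabChk dD) 23 1 = true := by decide +kernel

set_option maxRecDepth 1000000 in
theorem tab_b_24 : allC (tabChk dD) 24 1 = true := by decide +kernel

end Cfsg.Agent.Helper9.Co2O

end
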