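import Mathlib
import Cfsg.Agent.Helper9.Co2O.Data

set_option autoImplicit false
set_option Elab.async false

/-! Kernel checks of the certificates, a part. -/

noncomputable section

namespace Cfsg.Agent.Helper9.Co2O

open Cfsg.Agent.Helper9.OutG Cfsg.Agent.Helper9.J3

set_option maxRecDepth 1000000 in
theorem cls_hclo_25 : allC (cloChk dD dC dE dCl) 25 99 = true := by decide +kernel

set_option maxRecDepth 1000000 in
theorem cls_hclo_26 : allC (cloChk dD dC dE dCl) 26 99 = true := by decide +kernel

set_option maxRecDepth 1000000 in
theorem cls_hclo_27 : allC (cloChk dD dC dE dCl) 27 99 = true := by decide +kernel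

set_option maxRecDepth 1000000 in
theorem cls_hclo_28 : allC (cloChk dD dC dE dCl) 28 99 = true := by decide +kernel

set_option maxRecDepth 1000000 in
theorem cls_hclo_29 : allC (cloChk dD dC dE dCl) 29 99 = true := by decide +kernel

set_option maxRecDepth 1000000 in
theorem cls_hclo_30 : allC (cloChk dD dC dE dCl) 30 99 = true := by decide +kernel

set_option maxRecDepth 1000000 in
theorem cls_hclo_31 : allC (cloChk dD dC dE dCl) 31 99 = true := by decide +kernel

set_option maxRecDepth 1000000 in
theorem cls_hclo_32 : allC (cloChk dD dC dE dCl) 32 99 = true := by decide +kernel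

set_option maxRecDepth 1000000 in
theorem cls_hclo_33 : allC (cloChk dD dC dE dCl) 33 99 = true := by decide +kernel

set_option maxRecDepth 1000000 in
theorem cls_hclo_34 : allC (cloChk dD dC dE dCl) 34 99 = true := by decide +kernel

set_option maxRecDepth 1000000 in
theorem cls_hclo_35 : allC (cloChk dD dC dE dCl) 35 99 = true := by decide +kernel

set_option maxRecDepth 1000000 in
theorem cls_hclo_36 : allC (cloChk dD dC dE dCl) 36 99 = true := by decide +kernel

set_option maxRecDepth 1000000 in
theorem cls_hclo_37 : allC (cloChk dD dC dE dCl) 37 99 = true := by decide +kernel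

set_option maxRecDepth 1000000 in
theorem cls_hclo_38 : allC (cloChk dD dC dE dCl) 38 99 = true := by decide +kernel

set_option maxRecDepth 1000000 in
theorem cls_hclo_39 : allC (cloChk dD dC dE dCl) 39 99 = true := by decide +kernel

set_option maxRecDepth 1000000 in
theorem cls_hclo_40 : allC (cloChk dD dC dE dCl) 40 99 = true := by decide +kernel

set_option maxRecDepth 1000000 in
theorem cls_hclo_41 : allC (cloChk dD dC dE dCl) 41 99 = true := by decide +kernel

set_option maxRecDepth 1000000 in
theorem cls_hclo_42 : allC (cloChk dD dC dE dCl) 42 99 = true := by decide +kernel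

set_option maxRecDepth 1000000 in
theorem cls_hclo_43 : allC (cloChk dD dC dE dCl) 43 99 = true := by decide +kernel

set_option maxRecDepth 1000000 in
theorem cls_hclo_44 : allC (cloChk dD dC dE dCl) 44 99 = true := by decide +kernel

set_option maxRecDepth 1000000 in
theorem cls_hclo_45 : allC (cloChk dD dC dE dCl) 45 99 = true := by decide +kernel

set_option maxRecDepth 1000000 in
theorem cls_hclo_46 : allC (cloChk dD dC dE dCl) 46 99 = true := by decide +kernel

set_option maxRecDepth 1000000 in
theorem cls_hclo_47 : allC (cloChk dD dC dE dCl) 47 99 = true := by decide +kernel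

set_option maxRecDepth 1000000 in
theorem cls_hclo_48 : allC (cloChk dD dC dE dCl) 48 99 = true := by decide +kernel

set_option maxRecDepth 1000000 in
theorem cls_hclo_49 : allC (cloChk dD dC dE dCl) 49 99 = true := by decide +kernel

end Cfsg.Agent.Helper9.Co2O

end
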