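import Mathlib
import Cfsg.Agent.Helper9.Co2O.Data

set_option autoImplicit false
set_option Elab.async false

/-! Kernel checks of the certificates, a part. -/

noncomputable section

namespace Cfsg.Agent.Helper9.Co2O

open Cfsg.Agent.Helper9.OutG Cfsg.Agent.Helper9.J3

set_option maxRecDepth 1000000 in
theorem cls_hclo_250 : allC (cloChk dD dC dE dCl) 250 99 = true := by decide +kernel

set_option maxRecDepth 1000000 in
theorem cls_hclo_251 : allC (cloChk dD dC dE dCl) 251 99 = true := by decide +kernel

set_option maxRecDepth 1000000 in
theorem cls_hclo_252 : allC (cloChk dD dC dE dCl) 252 99 = true := by decide +kernel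

set_option maxRecDepth 1000000 in
theorem cls_hclo_253 : allC (cloChk dD dC dE dCl) 253 99 = true := by decide +kernel

set_option maxRecDepth 1000000 in
theorem cls_hclo_254 : allC (cloChk dD dC dE dCl) 254 99 = true := by decide +kernel

set_option maxRecDepth 1000000 in
theorem cls_hclo_255 : allC (cloChk dD dC dE dCl) 255 99 = true := by decide +kernel

set_option maxRecDepth 1000000 in
theorem cls_hclo_256 : allC (cloChk dD dC dE dCl) 256 99 = true := by decide +kernel

set_option maxRecDepth 1000000 in
theorem cls_hclo_257 : allC (cloChk dD dC dE dCl) 257 99 = true := by decide +kernel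

set_option maxRecDepth 1000000 in
theorem cls_hclo_258 : allC (cloChk dD dC dE dCl) 258 99 = true := by decide +kernel

set_option maxRecDepth 1000000 in
theorem cls_hclo_259 : allC (cloChk dD dC dE dCl) 259 99 = true := by decide +kernel

set_option maxRecDepth 1000000 in
theorem cls_hclo_260 : allC (cloChk dD dC dE dCl) 260 99 = true := by decide +kernel

set_option maxRecDepth 1000000 in
theorem cls_hclo_261 : allC (cloChk dD dC dE dCl) 261 99 = true := by decide +kernel

set_option maxRecDepth 1000000 in
theorem cls_hclo_262 : allC (cloChk dD dC dE dCl) 262 99 = true := by decide +kernel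

set_option maxRecDepth 1000000 in
theorem cls_hclo_263 : allC (cloChk dD dC dE dCl) 263 99 = true := by decide +kernel

set_option maxRecDepth 1000000 in
theorem cls_hclo_264 : allC (cloChk dD dC dE dCl) 264 99 = true := by decide +kernel

set_option maxRecDepth 1000000 in
theorem cls_hclo_265 : allC (cloChk dD dC dE dCl) 265 99 = true := by decide +kernel

set_option maxRecDepth 1000000 in
theorem cls_hclo_266 : allC (cloChk dD dC dE dCl) 266 99 = true := by decide +kernel

set_option maxRecDepth 1000000 in
theorem cls_hclo_267 : allC (cloChk dD dC dE dCl) 267 99 = true := by decide +kernel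

set_option maxRecDepth 1000000 in
theorem cls_hclo_268 : allC (cloChk dD dC dE dCl) 268 99 = true := by decide +kernel

set_option maxRecDepth 1000000 in
theorem cls_hclo_269 : allC (cloChk dD dC dE dCl) 269 99 = true := by decide +kernel

set_option maxRecDepth 1000000 in
theorem cls_hclo_270 : allC (cloChk dD dC dE dCl) 270 99 = true := by decide +kernel

set_option maxRecDepth 1000000 in
theorem cls_hclo_271 : allC (cloChk dD dC dE dCl) 271 99 = true := by decide +kernel

set_option maxRecDepth 1000000 in
theorem cls_hclo_272 : allC (cloChk dD dC dE dCl) 272 99 = true := by decide +kernel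

set_option maxRecDepth 1000000 in
theorem cls_hclo_273 : allC (cloChk dD dC dE dCl) 273 99 = true := by decide +kernel

set_option maxRecDepth 1000000 in
theorem cls_hclo_274 : allC (cloChk dD dC dE dCl) 274 99 = true := by decide +kernel

end Cfsg.Agent.Helper9.Co2O

end
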