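import Mathlib
import Cfsg.Agent.Helper9.Co2O.Data

set_option autoImplicit false
set_option Elab.async false

/-! Kernel checks of the certificates, a part. -/

noncomputable section

namespace Cfsg.Agent.Helper9.Co2O

open Cfsg.Agent.Helper9.OutG Cfsg.Agent.Helper9.J3

set_option maxRecDepth 1000000 in
theorem cls_hclo_300 : allC (cloChk dD dC dE dCl) 300 99 = true := by decide +kernel

set_option maxRecDepth 1000000 in
theorem cls_hclo_301 : allC (cloChk dD dC dE dCl) 301 99 = true := by decide +kernel

set_option maxRecDepth 1000000 in
theorem cls_hclo_302 : allC (cloChk dD dC dE dCl) 302 99 = true := by decide +kernel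

set_option maxRecDepth 1000000 in
theorem cls_hclo_303 : allC (cloChk dD dC dE dCl) 303 99 = true := by decide +kernel

set_option maxRecDepth 1000000 in
theorem cls_hclo_304 : allC (cloChk dD dC dE dCl) 304 99 = true := by decide +kernel

set_option maxRecDepth 1000000 in
theorem cls_hclo_305 : allC (cloChk dD dC dE dCl) 305 99 = true := by decide +kernel

set_option maxRecDepth 1000000 in
theorem cls_hclo_306 : allC (cloChk dD dC dE dCl) 306 99 = true := by decide +kernel

set_option maxRecDepth 1000000 in
theorem cls_hclo_307 : allC (cloChk dD dC dE dCl) 307 99 = true := by decide +kernel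

set_option maxRecDepth 1000000 in
theorem cls_hclo_308 : allC (cloChk dD dC dE dCl) 308 99 = true := by decide +kernel

set_option maxRecDepth 1000000 in
theorem cls_hclo_309 : allC (cloChk dD dC dE dCl) 309 99 = true := by decide +kernel

set_option maxRecDepth 1000000 in
theorem cls_hclo_310 : allC (cloChk dD dC dE dCl) 310 99 = true := by decide +kernel

set_option maxRecDepth 1000000 in
theorem cls_hclo_311 : allC (cloChk dD dC dE dCl) 311 99 = true := by decide +kernel

set_option maxRecDepth 1000000 in
theorem cls_hclo_312 : allC (cloChk dD dC dE dCl) 312 99 = true := by decide +kernel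

set_option maxRecDepth 1000000 in
theorem cls_hclo_313 : allC (cloChk dD dC dE dCl) 313 99 = true := by decide +kernel

set_option maxRecDepth 1000000 in
theorem cls_hclo_314 : allC (cloChk dD dC dE dCl) 314 99 = true := by decide +kernel

set_option maxRecDepth 1000000 in
theorem cls_hclo_315 : allC (cloChk dD dC dE dCl) 315 99 = true := by decide +kernel

set_option maxRecDepth 1000000 in
theorem cls_hclo_316 : allC (cloChk dD dC dE dCl) 316 99 = true := by decide +kernel

set_option maxRecDepth 1000000 in
theorem cls_hclo_317 : allC (cloChk dD dC dE dCl) 317 99 = true := by decide +kernel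

set_option maxRecDepth 1000000 in
theorem cls_hclo_318 : allC (cloChk dD dC dE dCl) 318 99 = true := by decide +kernel

set_option maxRecDepth 1000000 in
theorem cls_hclo_319 : allC (cloChk dD dC dE dCl) 319 99 = true := by decide +kernel

set_option maxRecDepth 1000000 in
theorem cls_hclo_320 : allC (cloChk dD dC dE dCl) 320 99 = true := by decide +kernel

set_option maxRecDepth 1000000 in
theorem cls_hclo_321 : allC (cloChk dD dC dE dCl) 321 99 = true := by decide +kernel

set_option maxRecDepth 1000000 in
theorem cls_hclo_322 : allC (cloChk dD dC dE dCl) 322 99 = true := by decide +kernel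

set_option maxRecDepth 1000000 in
theorem cls_hclo_323 : allC (cloChk dD dC dE dCl) 323 99 = true := by decide +kernel

set_option maxRecDepth 1000000 in
theorem cls_hclo_324 : allC (cloChk dD dC dE dCl) 324 99 = true := by decide +kernel

end Cfsg.Agent.Helper9.Co2O

end
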