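import Mathlib
import Cfsg.Agent.Helper9.Co2O.Data

set_option autoImplicit false
set_option Elab.async false

/-! Kernel checks of the certificates, a part. -/

noncomputable section

namespace Cfsg.Agent.Helper9.Co2O

open Cfsg.Agent.Helper9.OutG Cfsg.Agent.Helper9.J3

set_option maxRecDepth 1000000 in
theorem cls_hclo_325 : allC (cloChk dD dC dE dCl) 325 99 = true := by decide +kernel

set_option maxRecDepth 1000000 in
theorem cls_hclo_326 : allC (cloChk dD dC dE dCl) 326 99 = true := by decide +kernel

set_option maxRecDepth 1000000 in
theorem cls_hclo_327 : allC (cloChk dD dC dE dCl) 327 99 = true := by decide +kernel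

set_option maxRecDepth 1000000 in
theorem cls_hclo_328 : allC (cloChk dD dC dE dCl) 328 99 = true := by decide +kernel

set_option maxRecDepth 1000000 in
theorem cls_hclo_329 : allC (cloChk dD dC dE dCl) 329 99 = true := by decide +kernel

set_option maxRecDepth 1000000 in
theorem cls_hclo_330 : allC (cloChk dD dC dE dCl) 330 99 = true := by decide +kernel

set_option maxRecDepth 1000000 in
theorem cls_hclo_331 : allC (cloChk dD dC dE dCl) 331 99 = true := by decide +kernel

set_option maxRecDepth 1000000 in
theorem cls_hclo_332 : allC (cloChk dD dC dE dCl) 332 99 = true := by decide +kernel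

set_option maxRecDepth 1000000 in
theorem cls_hclo_333 : allC (cloChk dD dC dE dCl) 333 99 = true := by decide +kernel

set_option maxRecDepth 1000000 in
theorem cls_hclo_334 : allC (cloChk dD dC dE dCl) 334 99 = true := by decide +kernel

set_option maxRecDepth 1000000 in
theorem cls_hclo_335 : allC (cloChk dD dC dE dCl) 335 99 = true := by decide +kernel

set_option maxRecDepth 1000000 in
theorem cls_hclo_336 : allC (cloChk dD dC dE dCl) 336 99 = true := by decide +kernel

set_option maxRecDepth 1000000 in
theorem cls_hclo_337 : allC (cloChk dD dC dE dCl) 337 99 = true := by decide +kernel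

set_option maxRecDepth 1000000 in
theorem cls_hclo_338 : allC (cloChk dD dC dE dCl) 338 99 = true := by decide +kernel

set_option maxRecDepth 1000000 in
theorem cls_hclo_339 : allC (cloChk dD dC dE dCl) 339 99 = true := by decide +kernel

set_option maxRecDepth 1000000 in
theorem cls_hclo_340 : allC (cloChk dD dC dE dCl) 340 99 = true := by decide +kernel

set_option maxRecDepth 1000000 in
theorem cls_hclo_341 : allC (cloChk dD dC dE dCl) 341 99 = true := by decide +kernel

set_option maxRecDepth 1000000 in
theorem cls_hclo_342 : allC (cloChk dD dC dE dCl) 342 99 = true := by decide +kernel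

set_option maxRecDepth 1000000 in
theorem cls_hclo_343 : allC (cloChk dD dC dE dCl) 343 99 = true := by decide +kernel

set_option maxRecDepth 1000000 in
theorem cls_hclo_344 : allC (cloChk dD dC dE dCl) 344 99 = true := by decide +kernel

set_option maxRecDepth 1000000 in
theorem cls_hclo_345 : allC (cloChk dD dC dE dCl) 345 99 = true := by decide +kernel

set_option maxRecDepth 1000000 in
theorem cls_hclo_346 : allC (cloChk dD dC dE dCl) 346 99 = true := by decide +kernel

set_option maxRecDepth 1000000 in
theorem cls_hclo_347 : allC (cloChk dD dC dE dCl) 347 99 = true := by decide +kernel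

set_option maxRecDepth 1000000 in
theorem cls_hclo_348 : allC (cloChk dD dC dE dCl) 348 99 = true := by decide +kernel

set_option maxRecDepth 1000000 in
theorem cls_hclo_349 : allC (cloChk dD dC dE dCl) 349 99 = true := by decide +kernel

end Cfsg.Agent.Helper9.Co2O

end
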