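import Mathlib
import Cfsg.Agent.Helper9.Co2O.Data

set_option autoImplicit false
set_option Elab.async false

/-! Kernel checks of the certificates, a part. -/

noncomputable section

namespace Cfsg.Agent.Helper9.Co2O

open Cfsg.Agent.Helper9.OutG Cfsg.Agent.Helper9.J3

set_option maxRecDepth 1000000 in
theorem cls_hclo_350 : allC (cloChk dD dC dE dCl) 350 99 = true := by decide +kernel

set_option maxRecDepth 1000000 in
theorem cls_hclo_351 : allC (cloChk dD dC dE dCl) 351 99 = true := by decide +kernel

set_option maxRecDepth 1000000 in
theorem cls_hclo_352 : allC (cloChk dD dC dE dCl) 352 99 = true := by decide +kernel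

set_option maxRecDepth 1000000 in
theorem cls_hclo_353 : allC (cloChk dD dC dE dCl) 353 99 = true := by decide +kernel

set_option maxRecDepth 1000000 in
theorem cls_hclo_354 : allC (cloChk dD dC dE dCl) 354 99 = true := by decide +kernel

set_option maxRecDepth 1000000 in
theorem cls_hclo_355 : allC (cloChk dD dC dE dCl) 355 99 = true := by decide +kernel

set_option maxRecDepth 1000000 in
theorem cls_hclo_356 : allC (cloChk dD dC dE dCl) 356 99 = true := by decide +kernel

set_option maxRecDepth 1000000 in
theorem cls_hclo_357 : allC (cloChk dD dC dE dCl) 357 99 = true := by decide +kernel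

set_option maxRecDepth 1000000 in
theorem cls_hclo_358 : allC (cloChk dD dC dE dCl) 358 99 = true := by decide +kernel

set_option maxRecDepth 1000000 in
theorem cls_hclo_359 : allC (cloChk dD dC dE dCl) 359 99 = true := by decide +kernel

set_option maxRecDepth 1000000 in
theorem cls_hclo_360 : allC (cloChk dD dC dE dCl) 360 99 = true := by decide +kernel

set_option maxRecDepth 1000000 in
theorem cls_hclo_361 : allC (cloChk dD dC dE dCl) 361 99 = true := by decide +kernel

set_option maxRecDepth 1000000 in
theorem cls_hclo_362 : allC (cloChk dD dC dE dCl) 362 99 = true := by decide +kernel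

set_option maxRecDepth 1000000 in
theorem cls_hclo_363 : allC (cloChk dD dC dE dCl) 363 99 = true := by decide +kernel

set_option maxRecDepth 1000000 in
theorem cls_hclo_364 : allC (cloChk dD dC dE dCl) 364 99 = true := by decide +kernel

set_option maxRecDepth 1000000 in
theorem cls_hclo_365 : allC (cloChk dD dC dE dCl) 365 99 = true := by decide +kernel

set_option maxRecDepth 1000000 in
theorem cls_hclo_366 : allC (cloChk dD dC dE dCl) 366 99 = true := by decide +kernel

set_option maxRecDepth 1000000 in
theorem cls_hclo_367 : allC (cloChk dD dC dE dCl) 367 99 = true := by decide +kernel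

set_option maxRecDepth 1000000 in
theorem cls_hclo_368 : allC (cloChk dD dC dE dCl) 368 99 = true := by decide +kernel

set_option maxRecDepth 1000000 in
theorem cls_hclo_369 : allC (cloChk dD dC dE dCl) 369 99 = true := by decide +kernel

set_option maxRecDepth 1000000 in
theorem cls_hclo_370 : allC (cloChk dD dC dE dCl) 370 99 = true := by decide +kernel

set_option maxRecDepth 1000000 in
theorem cls_hclo_371 : allC (cloChk dD dC dE dCl) 371 99 = true := by decide +kernel

set_option maxRecDepth 1000000 in
theorem cls_hclo_372 : allC (cloChk dD dC dE dCl) 372 99 = true := by decide +kernel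

set_option maxRecDepth 1000000 in
theorem cls_hclo_373 : allC (cloChk dD dC dE dCl) 373 99 = true := by decide +kernel

set_option maxRecDepth 1000000 in
theorem cls_hclo_374 : allC (cloChk dD dC dE dCl) 374 99 = true := by decide +kernel

end Cfsg.Agent.Helper9.Co2O

end
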