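import Mathlib
import Cfsg.Agent.Helper9.Co2O.Data

set_option autoImplicit false
set_option Elab.async false

/-! Kernel checks of the certificates, a part. -/

noncomputable section

namespace Cfsg.Agent.Helper9.Co2O

open Cfsg.Agent.Helper9.OutG Cfsg.Agent.Helper9.J3

set_option maxRecDepth 1000000 in
theorem cls_hclo_375 : allC (cloChk dD dC dE dCl) 375 99 = true := by decide +kernel

set_option maxRecDepth 1000000 in
theorem cls_hclo_376 : allC (cloChk dD dC dE dCl) 376 99 = true := by decide +kernel

set_option maxRecDepth 1000000 in
theorem cls_hclo_377 : allC (cloChk dD dC dE dCl) 377 99 = true := by decide +kernel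

set_option maxRecDepth 1000000 in
theorem cls_hclo_378 : allC (cloChk dD dC dE dCl) 378 99 = true := by decide +kernel

set_option maxRecDepth 1000000 in
theorem cls_hclo_379 : allC (cloChk dD dC dE dCl) 379 99 = true := by decide +kernel

set_option maxRecDepth 1000000 in
theorem cls_hclo_380 : allC (cloChk dD dC dE dCl) 380 99 = true := by decide +kernel

set_option maxRecDepth 1000000 in
theorem cls_hclo_381 : allC (cloChk dD dC dE dCl) 381 99 = true := by decide +kernel

set_option maxRecDepth 1000000 in
theorem cls_hclo_382 : allC (cloChk dD dC dE dCl) 382 99 = true := by decide +kernel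

set_option maxRecDepth 1000000 in
theorem cls_hclo_383 : allC (cloChk dD dC dE dCl) 383 99 = true := by decide +kernel

set_option maxRecDepth 1000000 in
theorem cls_hclo_384 : allC (cloChk dD dC dE dCl) 384 99 = true := by decide +kernel

set_option maxRecDepth 1000000 in
theorem cls_hclo_385 : allC (cloChk dD dC dE dCl) 385 99 = true := by decide +kernel

set_option maxRecDepth 1000000 in
theorem cls_hclo_386 : allC (cloChk dD dC dE dCl) 386 99 = true := by decide +kernel

set_option maxRecDepth 1000000 in
theorem cls_hclo_387 : allC (cloChk dD dC dE dCl) 387 99 = true := by decide +kernel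

set_option maxRecDepth 1000000 in
theorem cls_hclo_388 : allC (cloChk dD dC dE dCl) 388 99 = true := by decide +kernel

set_option maxRecDepth 1000000 in
theorem cls_hclo_389 : allC (cloChk dD dC dE dCl) 389 99 = true := by decide +kernel

set_option maxRecDepth 1000000 in
theorem cls_hclo_390 : allC (cloChk dD dC dE dCl) 390 99 = true := by decide +kernel

set_option maxRecDepth 1000000 in
theorem cls_hclo_391 : allC (cloChk dD dC dE dCl) 391 99 = true := by decide +kernel

set_option maxRecDepth 1000000 in
theorem cls_hclo_392 : allC (cloChk dD dC dE dCl) 392 99 = true := by decide +kernel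

set_option maxRecDepth 1000000 in
theorem cls_hclo_393 : allC (cloChk dD dC dE dCl) 393 99 = true := by decide +kernel

set_option maxRecDepth 1000000 in
theorem cls_hclo_394 : allC (cloChk dD dC dE dCl) 394 99 = true := by decide +kernel

set_option maxRecDepth 1000000 in
theorem cls_hclo_395 : allC (cloChk dD dC dE dCl) 395 99 = true := by decide +kernel

set_option maxRecDepth 1000000 in
theorem cls_hclo_396 : allC (cloChk dD dC dE dCl) 396 99 = true := by decide +kernel

set_option maxRecDepth 1000000 in
theorem cls_hclo_397 : allC (cloChk dD dC dE dCl) 397 99 = true := by decide +kernel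

set_option maxRecDepth 1000000 in
theorem cls_hclo_398 : allC (cloChk dD dC dE dCl) 398 99 = true := by decide +kernel

set_option maxRecDepth 1000000 in
theorem cls_hclo_399 : allC (cloChk dD dC dE dCl) 399 99 = true := by decide +kernel

end Cfsg.Agent.Helper9.Co2O

end
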