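import Mathlib
import Cfsg.Agent.Helper9.Co2O.Data

set_option autoImplicit false
set_option Elab.async false

/-! Kernel checks of the certificates, a part. -/

noncomputable section

namespace Cfsg.Agent.Helper9.Co2O

open Cfsg.Agent.Helper9.OutG Cfsg.Agent.Helper9.J3

set_option maxRecDepth 1000000 in
theorem cls_hclo_400 : allC (cloChk dD dC dE dCl) 400 99 = true := by decide +kernel

set_option maxRecDepth 1000000 in
theorem cls_hclo_401 : allC (cloChk dD dC dE dCl) 401 99 = true := by decide +kernel

set_option maxRecDepth 1000000 in
theorem cls_hclo_402 : allC (cloChk dD dC dE dCl) 402 99 = true := by decide +kernel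

set_option maxRecDepth 1000000 in
theorem cls_hclo_403 : allC (cloChk dD dC dE dCl) 403 99 = true := by decide +kernel

set_option maxRecDepth 1000000 in
theorem cls_hclo_404 : allC (cloChk dD dC dE dCl) 404 99 = true := by decide +kernel

set_option maxRecDepth 1000000 in
theorem cls_hclo_405 : allC (cloChk dD dC dE dCl) 405 99 = true := by decide +kernel

set_option maxRecDepth 1000000 in
theorem cls_hclo_406 : allC (cloChk dD dC dE dCl) 406 99 = true := by decide +kernel

set_option maxRecDepth 1000000 in
theorem cls_hclo_407 : allC (cloChk dD dC dE dCl) 407 99 = true := by decide +kernel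

set_option maxRecDepth 1000000 in
theorem cls_hclo_408 : allC (cloChk dD dC dE dCl) 408 99 = true := by decide +kernel

set_option maxRecDepth 1000000 in
theorem cls_hclo_409 : allC (cloChk dD dC dE dCl) 409 99 = true := by decide +kernel

set_option maxRecDepth 1000000 in
theorem cls_hclo_410 : allC (cloChk dD dC dE dCl) 410 99 = true := by decide +kernel

set_option maxRecDepth 1000000 in
theorem cls_hclo_411 : allC (cloChk dD dC dE dCl) 411 99 = true := by decide +kernel

set_option maxRecDepth 1000000 in
theorem cls_hclo_412 : allC (cloChk dD dC dE dCl) 412 99 = true := by decide +kernel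

set_option maxRecDepth 1000000 in
theorem cls_hclo_413 : allC (cloChk dD dC dE dCl) 413 99 = true := by decide +kernel

set_option maxRecDepth 1000000 in
theorem cls_hclo_414 : allC (cloChk dD dC dE dCl) 414 99 = true := by decide +kernel

set_option maxRecDepth 1000000 in
theorem cls_hclo_415 : allC (cloChk dD dC dE dCl) 415 99 = true := by decide +kernel

set_option maxRecDepth 1000000 in
theorem cls_hclo_416 : allC (cloChk dD dC dE dCl) 416 99 = true := by decide +kernel

set_option maxRecDepth 1000000 in
theorem cls_hclo_417 : allC (cloChk dD dC dE dCl) 417 99 = true := by decide +kernel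

set_option maxRecDepth 1000000 in
theorem cls_hclo_418 : allC (cloChk dD dC dE dCl) 418 99 = true := by decide +kernel

set_option maxRecDepth 1000000 in
theorem cls_hclo_419 : allC (cloChk dD dC dE dCl) 419 99 = true := by decide +kernel

set_option maxRecDepth 1000000 in
theorem cls_hclo_420 : allC (cloChk dD dC dE dCl) 420 99 = true := by decide +kernel

set_option maxRecDepth 1000000 in
theorem cls_hclo_421 : allC (cloChk dD dC dE dCl) 421 99 = true := by decide +kernel

set_option maxRecDepth 1000000 in
theorem cls_hclo_422 : allC (cloChk dD dC dE dCl) 422 99 = true := by decide +kernel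

set_option maxRecDepth 1000000 in
theorem cls_hclo_423 : allC (cloChk dD dC dE dCl) 423 99 = true := by decide +kernel

set_option maxRecDepth 1000000 in
theorem cls_hclo_424 : allC (cloChk dD dC dE dCl) 424 99 = true := by decide +kernel

end Cfsg.Agent.Helper9.Co2O

end
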