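import Mathlib
import Cfsg.Agent.Helper9.Co2O.Data

set_option autoImplicit false
set_option Elab.async false

/-! Kernel checks of the certificates, a part. -/

noncomputable section

namespace Cfsg.Agent.Helper9.Co2O

open Cfsg.Agent.Helper9.OutG Cfsg.Agent.Helper9.J3

set_option maxRecDepth 1000000 in
theorem cls_hclo_425 : allC (cloChk dD dC dE dCl) 425 99 = true := by decide +kernel

set_option maxRecDepth 1000000 in
theorem cls_hclo_426 : allC (cloChk dD dC dE dCl) 426 99 = true := by decide +kernel

set_option maxRecDepth 1000000 in
theorem cls_hclo_427 : allC (cloChk dD dC dE dCl) 427 99 = true := by decide +kernel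

set_option maxRecDepth 1000000 in
theorem cls_hclo_428 : allC (cloChk dD dC dE dCl) 428 99 = true := by decide +kernel

set_option maxRecDepth 1000000 in
theorem cls_hclo_429 : allC (cloChk dD dC dE dCl) 429 99 = true := by decide +kernel

set_option maxRecDepth 1000000 in
theorem cls_hclo_430 : allC (cloChk dD dC dE dCl) 430 99 = true := by decide +kernel

set_option maxRecDepth 1000000 in
theorem cls_hclo_431 : allC (cloChk dD dC dE dCl) 431 99 = true := by decide +kernel

set_option maxRecDepth 1000000 in
theorem cls_hclo_432 : allC (cloChk dD dC dE dCl) 432 99 = true := by decide +kernel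

set_option maxRecDepth 1000000 in
theorem cls_hclo_433 : allC (cloChk dD dC dE dCl) 433 99 = true := by decide +kernel

set_option maxRecDepth 1000000 in
theorem cls_hclo_434 : allC (cloChk dD dC dE dCl) 434 99 = true := by decide +kernel

set_option maxRecDepth 1000000 in
theorem cls_hclo_435 : allC (cloChk dD dC dE dCl) 435 99 = true := by decide +kernel

set_option maxRecDepth 1000000 in
theorem cls_hclo_436 : allC (cloChk dD dC dE dCl) 436 99 = true := by decide +kernel

set_option maxRecDepth 1000000 in
theorem cls_hclo_437 : allC (cloChk dD dC dE dCl) 437 99 = true := by decide +kernel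

set_option maxRecDepth 1000000 in
theorem cls_hclo_438 : allC (cloChk dD dC dE dCl) 438 99 = true := by decide +kernel

set_option maxRecDepth 1000000 in
theorem cls_hclo_439 : allC (cloChk dD dC dE dCl) 439 99 = true := by decide +kernel

set_option maxRecDepth 1000000 in
theorem cls_hclo_440 : allC (cloChk dD dC dE dCl) 440 99 = true := by decide +kernel

set_option maxRecDepth 1000000 in
theorem cls_hclo_441 : allC (cloChk dD dC dE dCl) 441 99 = true := by decide +kernel

set_option maxRecDepth 1000000 in
theorem cls_hclo_442 : allC (cloChk dD dC dE dCl) 442 99 = true := by decide +kernel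

set_option maxRecDepth 1000000 in
theorem cls_hclo_443 : allC (cloChk dD dC dE dCl) 443 99 = true := by decide +kernel

set_option maxRecDepth 1000000 in
theorem cls_hclo_444 : allC (cloChk dD dC dE dCl) 444 99 = true := by decide +kernel

set_option maxRecDepth 1000000 in
theorem cls_hclo_445 : allC (cloChk dD dC dE dCl) 445 99 = true := by decide +kernel

set_option maxRecDepth 1000000 in
theorem cls_hclo_446 : allC (cloChk dD dC dE dCl) 446 99 = true := by decide +kernel

set_option maxRecDepth 1000000 in
theorem cls_hclo_447 : allC (cloChk dD dC dE dCl) 447 99 = true := by decide +kernel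

set_option maxRecDepth 1000000 in
theorem cls_hclo_448 : allC (cloChk dD dC dE dCl) 448 99 = true := by decide +kernel

set_option maxRecDepth 1000000 in
theorem cls_hclo_449 : allC (cloChk dD dC dE dCl) 449 99 = true := by decide +kernel

end Cfsg.Agent.Helper9.Co2O

end
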