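import Mathlib
import Cfsg.Agent.Helper9.Co2O.Data

set_option autoImplicit false
set_option Elab.async false

/-! Kernel checks of the certificates, a part. -/

noncomputable section

namespace Cfsg.Agent.Helper9.Co2O

open Cfsg.Agent.Helper9.OutG Cfsg.Agent.Helper9.J3

set_option maxRecDepth 1000000 in
theorem cls_hclo_450 : allC (cloChk dD dC dE dCl) 450 99 = true := by decide +kernel

set_option maxRecDepth 1000000 in
theorem cls_hclo_451 : allC (cloChk dD dC dE dCl) 451 99 = true := by decide +kernel

set_option maxRecDepth 1000000 in
theorem cls_hclo_452 : allC (cloChk dD dC dE dCl) 452 99 = true := by decide +kernel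

set_option maxRecDepth 1000000 in
theorem cls_hclo_453 : allC (cloChk dD dC dE dCl) 453 99 = true := by decide +kernel

set_option maxRecDepth 1000000 in
theorem cls_hclo_454 : allC (cloChk dD dC dE dCl) 454 99 = true := by decide +kernel

set_option maxRecDepth 1000000 in
theorem cls_hclo_455 : allC (cloChk dD dC dE dCl) 455 99 = true := by decide +kernel

set_option maxRecDepth 1000000 in
theorem cls_hclo_456 : allC (cloChk dD dC dE dCl) 456 99 = true := by decide +kernel

set_option maxRecDepth 1000000 in
theorem cls_hclo_457 : allC (cloChk dD dC dE dCl) 457 99 = true := by decide +kernel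

set_option maxRecDepth 1000000 in
theorem cls_hclo_458 : allC (cloChk dD dC dE dCl) 458 99 = true := by decide +kernel

set_option maxRecDepth 1000000 in
theorem cls_hclo_459 : allC (cloChk dD dC dE dCl) 459 99 = true := by decide +kernel

set_option maxRecDepth 1000000 in
theorem cls_hclo_460 : allC (cloChk dD dC dE dCl) 460 99 = true := by decide +kernel

set_option maxRecDepth 1000000 in
theorem cls_hclo_461 : allC (cloChk dD dC dE dCl) 461 99 = true := by decide +kernel

set_option maxRecDepth 1000000 in
theorem cls_hclo_462 : allC (cloChk dD dC dE dCl) 462 99 = true := by decide +kernel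

set_option maxRecDepth 1000000 in
theorem cls_hclo_463 : allC (cloChk dD dC dE dCl) 463 99 = true := by decide +kernel

set_option maxRecDepth 1000000 in
theorem cls_hclo_464 : allC (cloChk dD dC dE dCl) 464 99 = true := by decide +kernel

set_option maxRecDepth 1000000 in
theorem cls_hclo_465 : allC (cloChk dD dC dE dCl) 465 99 = true := by decide +kernel

set_option maxRecDepth 1000000 in
theorem cls_hclo_466 : allC (cloChk dD dC dE dCl) 466 99 = true := by decide +kernel

set_option maxRecDepth 1000000 in
theorem cls_hclo_467 : allC (cloChk dD dC dE dCl) 467 99 = true := by decide +kernel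

set_option maxRecDepth 1000000 in
theorem cls_hclo_468 : allC (cloChk dD dC dE dCl) 468 99 = true := by decide +kernel

set_option maxRecDepth 1000000 in
theorem cls_hclo_469 : allC (cloChk dD dC dE dCl) 469 99 = true := by decide +kernel

set_option maxRecDepth 1000000 in
theorem cls_hclo_470 : allC (cloChk dD dC dE dCl) 470 99 = true := by decide +kernel

set_option maxRecDepth 1000000 in
theorem cls_hclo_471 : allC (cloChk dD dC dE dCl) 471 99 = true := by decide +kernel

set_option maxRecDepth 1000000 in
theorem cls_hclo_472 : allC (cloChk dD dC dE dCl) 472 99 = true := by decide +kernel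

set_option maxRecDepth 1000000 in
theorem cls_hclo_473 : allC (cloChk dD dC dE dCl) 473 99 = true := by decide +kernel

set_option maxRecDepth 1000000 in
theorem cls_hclo_474 : allC (cloChk dD dC dE dCl) 474 99 = true := by decide +kernel

end Cfsg.Agent.Helper9.Co2O

end
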