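import Mathlib
import Cfsg.Agent.Helper9.Co2O.Data

set_option autoImplicit false
set_option Elab.async false

/-! Kernel checks of the certificates, a part. -/

noncomputable section

namespace Cfsg.Agent.Helper9.Co2O

open Cfsg.Agent.Helper9.OutG Cfsg.Agent.Helper9.J3

set_option maxRecDepth 1000000 in
theorem cls_hclo_475 : allC (cloChk dD dC dE dCl) 475 99 = true := by decide +kernel

set_option maxRecDepth 1000000 in
theorem cls_hclo_476 : allC (cloChk dD dC dE dCl) 476 99 = true := by decide +kernel

set_option maxRecDepth 1000000 in
theorem cls_hclo_477 : allC (cloChk dD dC dE dCl) 477 99 = true := by decide +kernel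

set_option maxRecDepth 1000000 in
theorem cls_hclo_478 : allC (cloChk dD dC dE dCl) 478 99 = true := by decide +kernel

set_option maxRecDepth 1000000 in
theorem cls_hclo_479 : allC (cloChk dD dC dE dCl) 479 99 = true := by decide +kernel

set_option maxRecDepth 1000000 in
theorem cls_hclo_480 : allC (cloChk dD dC dE dCl) 480 99 = true := by decide +kernel

set_option maxRecDepth 1000000 in
theorem cls_hclo_481 : allC (cloChk dD dC dE dCl) 481 99 = true := by decide +kernel

set_option maxRecDepth 1000000 in
theorem cls_hclo_482 : allC (cloChk dD dC dE dCl) 482 99 = true := by decide +kernel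

set_option maxRecDepth 1000000 in
theorem cls_hclo_483 : allC (cloChk dD dC dE dCl) 483 99 = true := by decide +kernel

set_option maxRecDepth 1000000 in
theorem cls_hclo_484 : allC (cloChk dD dC dE dCl) 484 99 = true := by decide +kernel

set_option maxRecDepth 1000000 in
theorem cls_hclo_485 : allC (cloChk dD dC dE dCl) 485 99 = true := by decide +kernel

set_option maxRecDepth 1000000 in
theorem cls_hclo_486 : allC (cloChk dD dC dE dCl) 486 99 = true := by decide +kernel

set_option maxRecDepth 1000000 in
theorem cls_hclo_487 : allC (cloChk dD dC dE dCl) 487 99 = true := by decide +kernel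

set_option maxRecDepth 1000000 in
theorem cls_hclo_488 : allC (cloChk dD dC dE dCl) 488 99 = true := by decide +kernel

set_option maxRecDepth 1000000 in
theorem cls_hclo_489 : allC (cloChk dD dC dE dCl) 489 99 = true := by decide +kernel

set_option maxRecDepth 1000000 in
theorem cls_hclo_490 : allC (cloChk dD dC dE dCl) 490 99 = true := by decide +kernel

set_option maxRecDepth 1000000 in
theorem cls_hclo_491 : allC (cloChk dD dC dE dCl) 491 99 = true := by decide +kernel

set_option maxRecDepth 1000000 in
theorem cls_hclo_492 : allC (cloChk dD dC dE dCl) 492 99 = true := by decide +kernel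

set_option maxRecDepth 1000000 in
theorem cls_hclo_493 : allC (cloChk dD dC dE dCl) 493 99 = true := by decide +kernel

set_option maxRecDepth 1000000 in
theorem cls_hclo_494 : allC (cloChk dD dC dE dCl) 494 99 = true := by decide +kernel

set_option maxRecDepth 1000000 in
theorem cls_hclo_495 : allC (cloChk dD dC dE dCl) 495 99 = true := by decide +kernel

set_option maxRecDepth 1000000 in
theorem cls_hclo_496 : allC (cloChk dD dC dE dCl) 496 99 = true := by decide +kernel

set_option maxRecDepth 1000000 in
theorem cls_hclo_497 : allC (cloChk dD dC dE dCl) 497 99 = true := by decide +kernel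

set_option maxRecDepth 1000000 in
theorem cls_hclo_498 : allC (cloChk dD dC dE dCl) 498 99 = true := by decide +kernel

set_option maxRecDepth 1000000 in
theorem cls_hclo_499 : allC (cloChk dD dC dE dCl) 499 99 = true := by decide +kernel

end Cfsg.Agent.Helper9.Co2O

end
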