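import Mathlib
import Cfsg.Agent.Helper9.Co2O.Data

set_option autoImplicit false
set_option Elab.async false

/-! Kernel checks of the certificates, a part. -/

noncomputable section

namespace Cfsg.Agent.Helper9.Co2O

open Cfsg.Agent.Helper9.OutG Cfsg.Agent.Helper9.J3

set_option maxRecDepth 1000000 in
theorem cls_hclo_50 : allC (cloChk dD dC dE dCl) 50 99 = true := by decide +kernel

set_option maxRecDepth 1000000 in
theorem cls_hclo_51 : allC (cloChk dD dC dE dCl) 51 99 = true := by decide +kernel

set_option maxRecDepth 1000000 in
theorem cls_hclo_52 : allC (cloChk dD dC dE dCl) 52 99 = true := by decide +kernel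

set_option maxRecDepth 1000000 in
theorem cls_hclo_53 : allC (cloChk dD dC dE dCl) 53 99 = true := by decide +kernel

set_option maxRecDepth 1000000 in
theorem cls_hclo_54 : allC (cloChk dD dC dE dCl) 54 99 = true := by decide +kernel

set_option maxRecDepth 1000000 in
theorem cls_hclo_55 : allC (cloChk dD dC dE dCl) 55 99 = true := by decide +kernel

set_option maxRecDepth 1000000 in
theorem cls_hclo_56 : allC (cloChk dD dC dE dCl) 56 99 = true := by decide +kernel

set_option maxRecDepth 1000000 in
theorem cls_hclo_57 : allC (cloChk dD dC dE dCl) 57 99 = true := by decide +kernel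

set_option maxRecDepth 1000000 in
theorem cls_hclo_58 : allC (cloChk dD dC dE dCl) 58 99 = true := by decide +kernel

set_option maxRecDepth 1000000 in
theorem cls_hclo_59 : allC (cloChk dD dC dE dCl) 59 99 = true := by decide +kernel

set_option maxRecDepth 1000000 in
theorem cls_hclo_60 : allC (cloChk dD dC dE dCl) 60 99 = true := by decide +kernel

set_option maxRecDepth 1000000 in
theorem cls_hclo_61 : allC (cloChk dD dC dE dCl) 61 99 = true := by decide +kernel

set_option maxRecDepth 1000000 in
theorem cls_hclo_62 : allC (cloChk dD dC dE dCl) 62 99 = true := by decide +kernel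

set_option maxRecDepth 1000000 in
theorem cls_hclo_63 : allC (cloChk dD dC dE dCl) 63 99 = true := by decide +kernel

set_option maxRecDepth 1000000 in
theorem cls_hclo_64 : allC (cloChk dD dC dE dCl) 64 99 = true := by decide +kernel

set_option maxRecDepth 1000000 in
theorem cls_hclo_65 : allC (cloChk dD dC dE dCl) 65 99 = true := by decide +kernel

set_option maxRecDepth 1000000 in
theorem cls_hclo_66 : allC (cloChk dD dC dE dCl) 66 99 = true := by decide +kernel

set_option maxRecDepth 1000000 in
theorem cls_hclo_67 : allC (cloChk dD dC dE dCl) 67 99 = true := by decide +kernel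

set_option maxRecDepth 1000000 in
theorem cls_hclo_68 : allC (cloChk dD dC dE dCl) 68 99 = true := by decide +kernel

set_option maxRecDepth 1000000 in
theorem cls_hclo_69 : allC (cloChk dD dC dE dCl) 69 99 = true := by decide +kernel

set_option maxRecDepth 1000000 in
theorem cls_hclo_70 : allC (cloChk dD dC dE dCl) 70 99 = true := by decide +kernel

set_option maxRecDepth 1000000 in
theorem cls_hclo_71 : allC (cloChk dD dC dE dCl) 71 99 = true := by decide +kernel

set_option maxRecDepth 1000000 in
theorem cls_hclo_72 : allC (cloChk dD dC dE dCl) 72 99 = true := by decide +kernel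

set_option maxRecDepth 1000000 in
theorem cls_hclo_73 : allC (cloChk dD dC dE dCl) 73 99 = true := by decide +kernel

set_option maxRecDepth 1000000 in
theorem cls_hclo_74 : allC (cloChk dD dC dE dCl) 74 99 = true := by decide +kernel

end Cfsg.Agent.Helper9.Co2O

end
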