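import Mathlib
import Cfsg.Agent.Helper9.Co2O.Data

set_option autoImplicit false
set_option Elab.async false

/-! Kernel checks of the certificates, a part. -/

noncomputable section

namespace Cfsg.Agent.Helper9.Co2O

open Cfsg.Agent.Helper9.OutG Cfsg.Agent.Helper9.J3

set_option maxRecDepth 1000000 in
theorem cls_hclo_500 : allC (cloChk dD dC dE dCl) 500 99 = true := by decide +kernel

set_option maxRecDepth 1000000 in
theorem cls_hclo_501 : allC (cloChk dD dC dE dCl) 501 99 = true := by decide +kernel

set_option maxRecDepth 1000000 in
theorem cls_hclo_502 : allC (cloChk dD dC dE dCl) 502 99 = true := by decide +kernel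

set_option maxRecDepth 1000000 in
theorem cls_hclo_503 : allC (cloChk dD dC dE dCl) 503 99 = true := by decide +kernel

set_option maxRecDepth 1000000 in
theorem cls_hclo_504 : allC (cloChk dD dC dE dCl) 504 99 = true := by decide +kernel

set_option maxRecDepth 1000000 in
theorem cls_hclo_505 : allC (cloChk dD dC dE dCl) 505 99 = true := by decide +kernel

set_option maxRecDepth 1000000 in
theorem cls_hclo_506 : allC (cloChk dD dC dE dCl) 506 99 = true := by decide +kernel

set_option maxRecDepth 1000000 in
theorem cls_hclo_507 : allC (cloChk dD dC dE dCl) 507 99 = true := by decide +kernel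

set_option maxRecDepth 1000000 in
theorem cls_hclo_508 : allC (cloChk dD dC dE dCl) 508 99 = true := by decide +kernel

set_option maxRecDepth 1000000 in
theorem cls_hclo_509 : allC (cloChk dD dC dE dCl) 509 99 = true := by decide +kernel

set_option maxRecDepth 1000000 in
theorem cls_hclo_510 : allC (cloChk dD dC dE dCl) 510 99 = true := by decide +kernel

set_option maxRecDepth 1000000 in
theorem cls_hclo_511 : allC (cloChk dD dC dE dCl) 511 99 = true := by decide +kernel

set_option maxRecDepth 1000000 in
theorem cls_hclo_512 : allC (cloChk dD dC dE dCl) 512 99 = true := by decide +kernel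

set_option maxRecDepth 1000000 in
theorem cls_hclo_513 : allC (cloChk dD dC dE dCl) 513 99 = true := by decide +kernel

set_option maxRecDepth 1000000 in
theorem cls_hclo_514 : allC (cloChk dD dC dE dCl) 514 99 = true := by decide +kernel

set_option maxRecDepth 1000000 in
theorem cls_hclo_515 : allC (cloChk dD dC dE dCl) 515 99 = true := by decide +kernel

set_option maxRecDepth 1000000 in
theorem cls_hclo_516 : allC (cloChk dD dC dE dCl) 516 99 = true := by decide +kernel

set_option maxRecDepth 1000000 in
theorem cls_hclo_517 : allC (cloChk dD dC dE dCl) 517 99 = true := by decide +kernel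

set_option maxRecDepth 1000000 in
theorem cls_hclo_518 : allC (cloChk dD dC dE dCl) 518 99 = true := by decide +kernel

set_option maxRecDepth 1000000 in
theorem cls_hclo_519 : allC (cloChk dD dC dE dCl) 519 99 = true := by decide +kernel

set_option maxRecDepth 1000000 in
theorem cls_hclo_520 : allC (cloChk dD dC dE dCl) 520 99 = true := by decide +kernel

set_option maxRecDepth 1000000 in
theorem cls_hclo_521 : allC (cloChk dD dC dE dCl) 521 99 = true := by decide +kernel

set_option maxRecDepth 1000000 in
theorem cls_hclo_522 : allC (cloChk dD dC dE dCl) 522 99 = true := by decide +kernel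

set_option maxRecDepth 1000000 in
theorem cls_hclo_523 : allC (cloChk dD dC dE dCl) 523 99 = true := by decide +kernel

set_option maxRecDepth 1000000 in
theorem cls_hclo_524 : allC (cloChk dD dC dE dCl) 524 99 = true := by decide +kernel

end Cfsg.Agent.Helper9.Co2O

end
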