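import Mathlib
import Cfsg.Agent.Helper9.Co2O.Data

set_option autoImplicit false
set_option Elab.async false

/-! Kernel checks of the certificates, a part. -/

noncomputable section

namespace Cfsg.Agent.Helper9.Co2O

open Cfsg.Agent.Helper9.OutG Cfsg.Agent.Helper9.J3

set_option maxRecDepth 1000000 in
theorem cls_hclo_525 : allC (cloChk dD dC dE dCl) 525 99 = true := by decide +kernel

set_option maxRecDepth 1000000 in
theorem cls_hclo_526 : allC (cloChk dD dC dE dCl) 526 99 = true := by decide +kernel

set_option maxRecDepth 1000000 in
theorem cls_hclo_527 : allC (cloChk dD dC dE dCl) 527 99 = true := by decide +kernel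

set_option maxRecDepth 1000000 in
theorem cls_hclo_528 : allC (cloChk dD dC dE dCl) 528 99 = true := by decide +kernel

set_option maxRecDepth 1000000 in
theorem cls_hclo_529 : allC (cloChk dD dC dE dCl) 529 99 = true := by decide +kernel

set_option maxRecDepth 1000000 in
theorem cls_hclo_530 : allC (cloChk dD dC dE dCl) 530 99 = true := by decide +kernel

set_option maxRecDepth 1000000 in
theorem cls_hclo_531 : allC (cloChk dD dC dE dCl) 531 99 = true := by decide +kernel

set_option maxRecDepth 1000000 in
theorem cls_hclo_532 : allC (cloChk dD dC dE dCl) 532 99 = true := by decide +kernel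

set_option maxRecDepth 1000000 in
theorem cls_hclo_533 : allC (cloChk dD dC dE dCl) 533 99 = true := by decide +kernel

set_option maxRecDepth 1000000 in
theorem cls_hclo_534 : allC (cloChk dD dC dE dCl) 534 99 = true := by decide +kernel

set_option maxRecDepth 1000000 in
theorem cls_hclo_535 : allC (cloChk dD dC dE dCl) 535 99 = true := by decide +kernel

set_option maxRecDepth 1000000 in
theorem cls_hclo_536 : allC (cloChk dD dC dE dCl) 536 99 = true := by decide +kernel

set_option maxRecDepth 1000000 in
theorem cls_hclo_537 : allC (cloChk dD dC dE dCl) 537 99 = true := by decide +kernel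

set_option maxRecDepth 1000000 in
theorem cls_hclo_538 : allC (cloChk dD dC dE dCl) 538 99 = true := by decide +kernel

set_option maxRecDepth 1000000 in
theorem cls_hclo_539 : allC (cloChk dD dC dE dCl) 539 99 = true := by decide +kernel

set_option maxRecDepth 1000000 in
theorem cls_hclo_540 : allC (cloChk dD dC dE dCl) 540 99 = true := by decide +kernel

set_option maxRecDepth 1000000 in
theorem cls_hclo_541 : allC (cloChk dD dC dE dCl) 541 99 = true := by decide +kernel

set_option maxRecDepth 1000000 in
theorem cls_hclo_542 : allC (cloChk dD dC dE dCl) 542 99 = true := by decide +kernel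

set_option maxRecDepth 1000000 in
theorem cls_hclo_543 : allC (cloChk dD dC dE dCl) 543 99 = true := by decide +kernel

set_option maxRecDepth 1000000 in
theorem cls_hclo_544 : allC (cloChk dD dC dE dCl) 544 99 = true := by decide +kernel

set_option maxRecDepth 1000000 in
theorem cls_hclo_545 : allC (cloChk dD dC dE dCl) 545 99 = true := by decide +kernel

set_option maxRecDepth 1000000 in
theorem cls_hclo_546 : allC (cloChk dD dC dE dCl) 546 99 = true := by decide +kernel

set_option maxRecDepth 1000000 in
theorem cls_hclo_547 : allC (cloChk dD dC dE dCl) 547 99 = true := by decide +kernel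

set_option maxRecDepth 1000000 in
theorem cls_hclo_548 : allC (cloChk dD dC dE dCl) 548 99 = true := by decide +kernel

set_option maxRecDepth 1000000 in
theorem cls_hclo_549 : allC (cloChk dD dC dE dCl) 549 99 = true := by decide +kernel

end Cfsg.Agent.Helper9.Co2O

end
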