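import Mathlib
import Cfsg.Agent.Helper9.Co2O.Data

set_option autoImplicit false
set_option Elab.async false

/-! Kernel checks of the certificates, a part. -/

noncomputable section

namespace Cfsg.Agent.Helper9.Co2O

open Cfsg.Agent.Helper9.OutG Cfsg.Agent.Helper9.J3

set_option maxRecDepth 1000000 in
theorem cls_hclo_550 : allC (cloChk dD dC dE dCl) 550 99 = true := by decide +kernel

set_option maxRecDepth 1000000 in
theorem cls_hclo_551 : allC (cloChk dD dC dE dCl) 551 99 = true := by decide +kernel

set_option maxRecDepth 1000000 in
theorem cls_hclo_552 : allC (cloChk dD dC dE dCl) 552 99 = true := by decide +kernel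

set_option maxRecDepth 1000000 in
theorem cls_hclo_553 : allC (cloChk dD dC dE dCl) 553 99 = true := by decide +kernel

set_option maxRecDepth 1000000 in
theorem cls_hclo_554 : allC (cloChk dD dC dE dCl) 554 99 = true := by decide +kernel

set_option maxRecDepth 1000000 in
theorem cls_hclo_555 : allC (cloChk dD dC dE dCl) 555 99 = true := by decide +kernel

set_option maxRecDepth 1000000 in
theorem cls_hclo_556 : allC (cloChk dD dC dE dCl) 556 99 = true := by decide +kernel

set_option maxRecDepth 1000000 in
theorem cls_hclo_557 : allC (cloChk dD dC dE dCl) 557 99 = true := by decide +kernel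

set_option maxRecDepth 1000000 in
theorem cls_hclo_558 : allC (cloChk dD dC dE dCl) 558 99 = true := by decide +kernel

set_option maxRecDepth 1000000 in
theorem cls_hclo_559 : allC (cloChk dD dC dE dCl) 559 99 = true := by decide +kernel

set_option maxRecDepth 1000000 in
theorem cls_hclo_560 : allC (cloChk dD dC dE dCl) 560 99 = true := by decide +kernel

set_option maxRecDepth 1000000 in
theorem cls_hclo_561 : allC (cloChk dD dC dE dCl) 561 99 = true := by decide +kernel

set_option maxRecDepth 1000000 in
theorem cls_hclo_562 : allC (cloChk dD dC dE dCl) 562 99 = true := by decide +kernel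

set_option maxRecDepth 1000000 in
theorem cls_hclo_563 : allC (cloChk dD dC dE dCl) 563 99 = true := by decide +kernel

set_option maxRecDepth 1000000 in
theorem cls_hclo_564 : allC (cloChk dD dC dE dCl) 564 99 = true := by decide +kernel

set_option maxRecDepth 1000000 in
theorem cls_hclo_565 : allC (cloChk dD dC dE dCl) 565 99 = true := by decide +kernel

set_option maxRecDepth 1000000 in
theorem cls_hclo_566 : allC (cloChk dD dC dE dCl) 566 99 = true := by decide +kernel

set_option maxRecDepth 1000000 in
theorem cls_hclo_567 : allC (cloChk dD dC dE dCl) 567 99 = true := by decide +kernel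

set_option maxRecDepth 1000000 in
theorem cls_hclo_568 : allC (cloChk dD dC dE dCl) 568 99 = true := by decide +kernel

set_option maxRecDepth 1000000 in
theorem cls_hclo_569 : allC (cloChk dD dC dE dCl) 569 99 = true := by decide +kernel

set_option maxRecDepth 1000000 in
theorem cls_hclo_570 : allC (cloChk dD dC dE dCl) 570 99 = true := by decide +kernel

set_option maxRecDepth 1000000 in
theorem cls_hclo_571 : allC (cloChk dD dC dE dCl) 571 99 = true := by decide +kernel

set_option maxRecDepth 1000000 in
theorem cls_hclo_572 : allC (cloChk dD dC dE dCl) 572 99 = true := by decide +kernel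

set_option maxRecDepth 1000000 in
theorem cls_hclo_573 : allC (cloChk dD dC dE dCl) 573 99 = true := by decide +kernel

set_option maxRecDepth 1000000 in
theorem cls_hclo_574 : allC (cloChk dD dC dE dCl) 574 99 = true := by decide +kernel

end Cfsg.Agent.Helper9.Co2O

end
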