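import Mathlib
import Cfsg.Agent.Helper9.Co2O.Data

set_option autoImplicit false
set_option Elab.async false

/-! Kernel checks of the certificates, a part. -/

noncomputable section

namespace Cfsg.Agent.Helper9.Co2O

open Cfsg.Agent.Helper9.OutG Cfsg.Agent.Helper9.J3

set_option maxRecDepth 1000000 in
theorem cls_hclo_75 : allC (cloChk dD dC dE dCl) 75 99 = true := by decide +kernel

set_option maxRecDepth 1000000 in
theorem cls_hclo_76 : allC (cloChk dD dC dE dCl) 76 99 = true := by decide +kernel

set_option maxRecDepth 1000000 in
theorem cls_hclo_77 : allC (cloChk dD dC dE dCl) 77 99 = true := by decide +kernel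

set_option maxRecDepth 1000000 in
theorem cls_hclo_78 : allC (cloChk dD dC dE dCl) 78 99 = true := by decide +kernel

set_option maxRecDepth 1000000 in
theorem cls_hclo_79 : allC (cloChk dD dC dE dCl) 79 99 = true := by decide +kernel

set_option maxRecDepth 1000000 in
theorem cls_hclo_80 : allC (cloChk dD dC dE dCl) 80 99 = true := by decide +kernel

set_option maxRecDepth 1000000 in
theorem cls_hclo_81 : allC (cloChk dD dC dE dCl) 81 99 = true := by decide +kernel

set_option maxRecDepth 1000000 in
theorem cls_hclo_82 : allC (cloChk dD dC dE dCl) 82 99 = true := by decide +kernel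

set_option maxRecDepth 1000000 in
theorem cls_hclo_83 : allC (cloChk dD dC dE dCl) 83 99 = true := by decide +kernel

set_option maxRecDepth 1000000 in
theorem cls_hclo_84 : allC (cloChk dD dC dE dCl) 84 99 = true := by decide +kernel

set_option maxRecDepth 1000000 in
theorem cls_hclo_85 : allC (cloChk dD dC dE dCl) 85 99 = true := by decide +kernel

set_option maxRecDepth 1000000 in
theorem cls_hclo_86 : allC (cloChk dD dC dE dCl) 86 99 = true := by decide +kernel

set_option maxRecDepth 1000000 in
theorem cls_hclo_87 : allC (cloChk dD dC dE dCl) 87 99 = true := by decide +kernel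

set_option maxRecDepth 1000000 in
theorem cls_hclo_88 : allC (cloChk dD dC dE dCl) 88 99 = true := by decide +kernel

set_option maxRecDepth 1000000 in
theorem cls_hclo_89 : allC (cloChk dD dC dE dCl) 89 99 = true := by decide +kernel

set_option maxRecDepth 1000000 in
theorem cls_hclo_90 : allC (cloChk dD dC dE dCl) 90 99 = true := by decide +kernel

set_option maxRecDepth 1000000 in
theorem cls_hclo_91 : allC (cloChk dD dC dE dCl) 91 99 = true := by decide +kernel

set_option maxRecDepth 1000000 in
theorem cls_hclo_92 : allC (cloChk dD dC dE dCl) 92 99 = true := by decide +kernel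

set_option maxRecDepth 1000000 in
theorem cls_hclo_93 : allC (cloChk dD dC dE dCl) 93 99 = true := by decide +kernel

set_option maxRecDepth 1000000 in
theorem cls_hclo_94 : allC (cloChk dD dC dE dCl) 94 99 = true := by decide +kernel

set_option maxRecDepth 1000000 in
theorem cls_hclo_95 : allC (cloChk dD dC dE dCl) 95 99 = true := by decide +kernel

set_option maxRecDepth 1000000 in
theorem cls_hclo_96 : allC (cloChk dD dC dE dCl) 96 99 = true := by decide +kernel

set_option maxRecDepth 1000000 in
theorem cls_hclo_97 : allC (cloChk dD dC dE dCl) 97 99 = true := by decide +kernel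

set_option maxRecDepth 1000000 in
theorem cls_hclo_98 : allC (cloChk dD dC dE dCl) 98 99 = true := by decide +kernel

set_option maxRecDepth 1000000 in
theorem cls_hclo_99 : allC (cloChk dD dC dE dCl) 99 99 = true := by decide +kernel

end Cfsg.Agent.Helper9.Co2O

end
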