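import Mathlib
import Cfsg.Agent.Helper9.Co2O.Data

set_option autoImplicit false
set_option Elab.async false

/-! Kernel checks of the certificates, a part. -/

noncomputable section

namespace Cfsg.Agent.Helper9.Co2O

open Cfsg.Agent.Helper9.OutG Cfsg.Agent.Helper9.J3

set_option maxRecDepth 1000000 in
theorem cls_hclo_100 : allC (cloChk dD dC dE dCl) 100 99 = true := by decide +kernel

set_option maxRecDepth 1000000 in
theorem cls_hclo_101 : allC (cloChk dD dC dE dCl) 101 99 = true := by decide +kernel

set_option maxRecDepth 1000000 in
theorem cls_hclo_102 : allC (cloChk dD dC dE dCl) 102 99 = true := by decide +kernel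

set_option maxRecDepth 1000000 in
theorem cls_hclo_103 : allC (cloChk dD dC dE dCl) 103 99 = true := by decide +kernel

set_option maxRecDepth 1000000 in
theorem cls_hclo_104 : allC (cloChk dD dC dE dCl) 104 99 = true := by decide +kernel

set_option maxRecDepth 1000000 in
theorem cls_hclo_105 : allC (cloChk dD dC dE dCl) 105 99 = true := by decide +kernel

set_option maxRecDepth 1000000 in
theorem cls_hclo_106 : allC (cloChk dD dC dE dCl) 106 99 = true := by decide +kernel

set_option maxRecDepth 1000000 in
theorem cls_hclo_107 : allC (cloChk dD dC dE dCl) 107 99 = true := by decide +kernel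

set_option maxRecDepth 1000000 in
theorem cls_hclo_108 : allC (cloChk dD dC dE dCl) 108 99 = true := by decide +kernel

set_option maxRecDepth 1000000 in
theorem cls_hclo_109 : allC (cloChk dD dC dE dCl) 109 99 = true := by decide +kernel

set_option maxRecDepth 1000000 in
theorem cls_hclo_110 : allC (cloChk dD dC dE dCl) 110 99 = true := by decide +kernel

set_option maxRecDepth 1000000 in
theorem cls_hclo_111 : allC (cloChk dD dC dE dCl) 111 99 = true := by decide +kernel

set_option maxRecDepth 1000000 in
theorem cls_hclo_112 : allC (cloChk dD dC dE dCl) 112 99 = true := by decide +kernel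

set_option maxRecDepth 1000000 in
theorem cls_hclo_113 : allC (cloChk dD dC dE dCl) 113 99 = true := by decide +kernel

set_option maxRecDepth 1000000 in
theorem cls_hclo_114 : allC (cloChk dD dC dE dCl) 114 99 = true := by decide +kernel

set_option maxRecDepth 1000000 in
theorem cls_hclo_115 : allC (cloChk dD dC dE dCl) 115 99 = true := by decide +kernel

set_option maxRecDepth 1000000 in
theorem cls_hclo_116 : allC (cloChk dD dC dE dCl) 116 99 = true := by decide +kernel

set_option maxRecDepth 1000000 in
theorem cls_hclo_117 : allC (cloChk dD dC dE dCl) 117 99 = true := by decide +kernel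

set_option maxRecDepth 1000000 in
theorem cls_hclo_118 : allC (cloChk dD dC dE dCl) 118 99 = true := by decide +kernel

set_option maxRecDepth 1000000 in
theorem cls_hclo_119 : allC (cloChk dD dC dE dCl) 119 99 = true := by decide +kernel

set_option maxRecDepth 1000000 in
theorem cls_hclo_120 : allC (cloChk dD dC dE dCl) 120 99 = true := by decide +kernel

set_option maxRecDepth 1000000 in
theorem cls_hclo_121 : allC (cloChk dD dC dE dCl) 121 99 = true := by decide +kernel

set_option maxRecDepth 1000000 in
theorem cls_hclo_122 : allC (cloChk dD dC dE dCl) 122 99 = true := by decide +kernel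

set_option maxRecDepth 1000000 in
theorem cls_hclo_123 : allC (cloChk dD dC dE dCl) 123 99 = true := by decide +kernel

set_option maxRecDepth 1000000 in
theorem cls_hclo_124 : allC (cloChk dD dC dE dCl) 124 99 = true := by decide +kernel

end Cfsg.Agent.Helper9.Co2O

end
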