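import Mathlib
import Cfsg.Agent.Helper9.Co2O.Data

set_option autoImplicit false
set_option Elab.async false

/-! Kernel checks of the certificates, a part. -/

noncomputable section

namespace Cfsg.Agent.Helper9.Co2O

open Cfsg.Agent.Helper9.OutG Cfsg.Agent.Helper9.J3

set_option maxRecDepth 1000000 in
theorem cls_hclo_125 : allC (cloChk dD dC dE dCl) 125 99 = true := by decide +kernel

set_option maxRecDepth 1000000 in
theorem cls_hclo_126 : allC (cloChk dD dC dE dCl) 126 99 = true := by decide +kernel

set_option maxRecDepth 1000000 in
theorem cls_hclo_127 : allC (cloChk dD dC dE dCl) 127 99 = true := by decide +kernel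

set_option maxRecDepth 1000000 in
theorem cls_hclo_128 : allC (cloChk dD dC dE dCl) 128 99 = true := by decide +kernel

set_option maxRecDepth 1000000 in
theorem cls_hclo_129 : allC (cloChk dD dC dE dCl) 129 99 = true := by decide +kernel

set_option maxRecDepth 1000000 in
theorem cls_hclo_130 : allC (cloChk dD dC dE dCl) 130 99 = true := by decide +kernel

set_option maxRecDepth 1000000 in
theorem cls_hclo_131 : allC (cloChk dD dC dE dCl) 131 99 = true := by decide +kernel

set_option maxRecDepth 1000000 in
theorem cls_hclo_132 : allC (cloChk dD dC dE dCl) 132 99 = true := by decide +kernel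

set_option maxRecDepth 1000000 in
theorem cls_hclo_133 : allC (cloChk dD dC dE dCl) 133 99 = true := by decide +kernel

set_option maxRecDepth 1000000 in
theorem cls_hclo_134 : allC (cloChk dD dC dE dCl) 134 99 = true := by decide +kernel

set_option maxRecDepth 1000000 in
theorem cls_hclo_135 : allC (cloChk dD dC dE dCl) 135 99 = true := by decide +kernel

set_option maxRecDepth 1000000 in
theorem cls_hclo_136 : allC (cloChk dD dC dE dCl) 136 99 = true := by decide +kernel

set_option maxRecDepth 1000000 in
theorem cls_hclo_137 : allC (cloChk dD dC dE dCl) 137 99 = true := by decide +kernel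

set_option maxRecDepth 1000000 in
theorem cls_hclo_138 : allC (cloChk dD dC dE dCl) 138 99 = true := by decide +kernel

set_option maxRecDepth 1000000 in
theorem cls_hclo_139 : allC (cloChk dD dC dE dCl) 139 99 = true := by decide +kernel

set_option maxRecDepth 1000000 in
theorem cls_hclo_140 : allC (cloChk dD dC dE dCl) 140 99 = true := by decide +kernel

set_option maxRecDepth 1000000 in
theorem cls_hclo_141 : allC (cloChk dD dC dE dCl) 141 99 = true := by decide +kernel

set_option maxRecDepth 1000000 in
theorem cls_hclo_142 : allC (cloChk dD dC dE dCl) 142 99 = true := by decide +kernel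

set_option maxRecDepth 1000000 in
theorem cls_hclo_143 : allC (cloChk dD dC dE dCl) 143 99 = true := by decide +kernel

set_option maxRecDepth 1000000 in
theorem cls_hclo_144 : allC (cloChk dD dC dE dCl) 144 99 = true := by decide +kernel

set_option maxRecDepth 1000000 in
theorem cls_hclo_145 : allC (cloChk dD dC dE dCl) 145 99 = true := by decide +kernel

set_option maxRecDepth 1000000 in
theorem cls_hclo_146 : allC (cloChk dD dC dE dCl) 146 99 = true := by decide +kernel

set_option maxRecDepth 1000000 in
theorem cls_hclo_147 : allC (cloChk dD dC dE dCl) 147 99 = true := by decide +kernel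

set_option maxRecDepth 1000000 in
theorem cls_hclo_148 : allC (cloChk dD dC dE dCl) 148 99 = true := by decide +kernel

set_option maxRecDepth 1000000 in
theorem cls_hclo_149 : allC (cloChk dD dC dE dCl) 149 99 = true := by decide +kernel

end Cfsg.Agent.Helper9.Co2O

end
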