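import Mathlib
import Cfsg.Agent.Helper9.Co2O.Data

set_option autoImplicit false
set_option Elab.async false

/-! Kernel checks of the certificates, a part. -/

noncomputable section

namespace Cfsg.Agent.Helper9.Co2O

open Cfsg.Agent.Helper9.OutG Cfsg.Agent.Helper9.J3

set_option maxRecDepth 1000000 in
theorem cls_hclo_150 : allC (cloChk dD dC dE dCl) 150 99 = true := by decide +kernel

set_option maxRecDepth 1000000 in
theorem cls_hclo_151 : allC (cloChk dD dC dE dCl) 151 99 = true := by decide +kernel

set_option maxRecDepth 1000000 in
theorem cls_hclo_152 : allC (cloChk dD dC dE dCl) 152 99 = true := by decide +kernel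

set_option maxRecDepth 1000000 in
theorem cls_hclo_153 : allC (cloChk dD dC dE dCl) 153 99 = true := by decide +kernel

set_option maxRecDepth 1000000 in
theorem cls_hclo_154 : allC (cloChk dD dC dE dCl) 154 99 = true := by decide +kernel

set_option maxRecDepth 1000000 in
theorem cls_hclo_155 : allC (cloChk dD dC dE dCl) 155 99 = true := by decide +kernel

set_option maxRecDepth 1000000 in
theorem cls_hclo_156 : allC (cloChk dD dC dE dCl) 156 99 = true := by decide +kernel

set_option maxRecDepth 1000000 in
theorem cls_hclo_157 : allC (cloChk dD dC dE dCl) 157 99 = true := by decide +kernel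

set_option maxRecDepth 1000000 in
theorem cls_hclo_158 : allC (cloChk dD dC dE dCl) 158 99 = true := by decide +kernel

set_option maxRecDepth 1000000 in
theorem cls_hclo_159 : allC (cloChk dD dC dE dCl) 159 99 = true := by decide +kernel

set_option maxRecDepth 1000000 in
theorem cls_hclo_160 : allC (cloChk dD dC dE dCl) 160 99 = true := by decide +kernel

set_option maxRecDepth 1000000 in
theorem cls_hclo_161 : allC (cloChk dD dC dE dCl) 161 99 = true := by decide +kernel

set_option maxRecDepth 1000000 in
theorem cls_hclo_162 : allC (cloChk dD dC dE dCl) 162 99 = true := by decide +kernel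

set_option maxRecDepth 1000000 in
theorem cls_hclo_163 : allC (cloChk dD dC dE dCl) 163 99 = true := by decide +kernel

set_option maxRecDepth 1000000 in
theorem cls_hclo_164 : allC (cloChk dD dC dE dCl) 164 99 = true := by decide +kernel

set_option maxRecDepth 1000000 in
theorem cls_hclo_165 : allC (cloChk dD dC dE dCl) 165 99 = true := by decide +kernel

set_option maxRecDepth 1000000 in
theorem cls_hclo_166 : allC (cloChk dD dC dE dCl) 166 99 = true := by decide +kernel

set_option maxRecDepth 1000000 in
theorem cls_hclo_167 : allC (cloChk dD dC dE dCl) 167 99 = true := by decide +kernel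

set_option maxRecDepth 1000000 in
theorem cls_hclo_168 : allC (cloChk dD dC dE dCl) 168 99 = true := by decide +kernel

set_option maxRecDepth 1000000 in
theorem cls_hclo_169 : allC (cloChk dD dC dE dCl) 169 99 = true := by decide +kernel

set_option maxRecDepth 1000000 in
theorem cls_hclo_170 : allC (cloChk dD dC dE dCl) 170 99 = true := by decide +kernel

set_option maxRecDepth 1000000 in
theorem cls_hclo_171 : allC (cloChk dD dC dE dCl) 171 99 = true := by decide +kernel

set_option maxRecDepth 1000000 in
theorem cls_hclo_172 : allC (cloChk dD dC dE dCl) 172 99 = true := by decide +kernel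

set_option maxRecDepth 1000000 in
theorem cls_hclo_173 : allC (cloChk dD dC dE dCl) 173 99 = true := by decide +kernel

set_option maxRecDepth 1000000 in
theorem cls_hclo_174 : allC (cloChk dD dC dE dCl) 174 99 = true := by decide +kernel

end Cfsg.Agent.Helper9.Co2O

end
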