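import Mathlib
import Cfsg.Agent.Helper9.Co2O.Data

set_option autoImplicit false
set_option Elab.async false

/-! Kernel checks of the certificates, a part. -/

noncomputable section

namespace Cfsg.Agent.Helper9.Co2O

open Cfsg.Agent.Helper9.OutG Cfsg.Agent.Helper9.J3

set_option maxRecDepth 1000000 in
theorem cls_hclo_175 : allC (cloChk dD dC dE dCl) 175 99 = true := by decide +kernel

set_option maxRecDepth 1000000 in
theorem cls_hclo_176 : allC (cloChk dD dC dE dCl) 176 99 = true := by decide +kernel

set_option maxRecDepth 1000000 in
theorem cls_hclo_177 : allC (cloChk dD dC dE dCl) 177 99 = true := by decide +kernel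

set_option maxRecDepth 1000000 in
theorem cls_hclo_178 : allC (cloChk dD dC dE dCl) 178 99 = true := by decide +kernel

set_option maxRecDepth 1000000 in
theorem cls_hclo_179 : allC (cloChk dD dC dE dCl) 179 99 = true := by decide +kernel

set_option maxRecDepth 1000000 in
theorem cls_hclo_180 : allC (cloChk dD dC dE dCl) 180 99 = true := by decide +kernel

set_option maxRecDepth 1000000 in
theorem cls_hclo_181 : allC (cloChk dD dC dE dCl) 181 99 = true := by decide +kernel

set_option maxRecDepth 1000000 in
theorem cls_hclo_182 : allC (cloChk dD dC dE dCl) 182 99 = true := by decide +kernel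

set_option maxRecDepth 1000000 in
theorem cls_hclo_183 : allC (cloChk dD dC dE dCl) 183 99 = true := by decide +kernel

set_option maxRecDepth 1000000 in
theorem cls_hclo_184 : allC (cloChk dD dC dE dCl) 184 99 = true := by decide +kernel

set_option maxRecDepth 1000000 in
theorem cls_hclo_185 : allC (cloChk dD dC dE dCl) 185 99 = true := by decide +kernel

set_option maxRecDepth 1000000 in
theorem cls_hclo_186 : allC (cloChk dD dC dE dCl) 186 99 = true := by decide +kernel

set_option maxRecDepth 1000000 in
theorem cls_hclo_187 : allC (cloChk dD dC dE dCl) 187 99 = true := by decide +kernel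

set_option maxRecDepth 1000000 in
theorem cls_hclo_188 : allC (cloChk dD dC dE dCl) 188 99 = true := by decide +kernel

set_option maxRecDepth 1000000 in
theorem cls_hclo_189 : allC (cloChk dD dC dE dCl) 189 99 = true := by decide +kernel

set_option maxRecDepth 1000000 in
theorem cls_hclo_190 : allC (cloChk dD dC dE dCl) 190 99 = true := by decide +kernel

set_option maxRecDepth 1000000 in
theorem cls_hclo_191 : allC (cloChk dD dC dE dCl) 191 99 = true := by decide +kernel

set_option maxRecDepth 1000000 in
theorem cls_hclo_192 : allC (cloChk dD dC dE dCl) 192 99 = true := by decide +kernel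

set_option maxRecDepth 1000000 in
theorem cls_hclo_193 : allC (cloChk dD dC dE dCl) 193 99 = true := by decide +kernel

set_option maxRecDepth 1000000 in
theorem cls_hclo_194 : allC (cloChk dD dC dE dCl) 194 99 = true := by decide +kernel

set_option maxRecDepth 1000000 in
theorem cls_hclo_195 : allC (cloChk dD dC dE dCl) 195 99 = true := by decide +kernel

set_option maxRecDepth 1000000 in
theorem cls_hclo_196 : allC (cloChk dD dC dE dCl) 196 99 = true := by decide +kernel

set_option maxRecDepth 1000000 in
theorem cls_hclo_197 : allC (cloChk dD dC dE dCl) 197 99 = true := by decide +kernel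

set_option maxRecDepth 1000000 in
theorem cls_hclo_198 : allC (cloChk dD dC dE dCl) 198 99 = true := by decide +kernel

set_option maxRecDepth 1000000 in
theorem cls_hclo_199 : allC (cloChk dD dC dE dCl) 199 99 = true := by decide +kernel

end Cfsg.Agent.Helper9.Co2O

end
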