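import Mathlib
import Cfsg.Agent.Helper9.Co2O.Data

set_option autoImplicit false
set_option Elab.async false

/-! Kernel checks of the certificates, a part. -/

noncomputable section

namespace Cfsg.Agent.Helper9.Co2O

open Cfsg.Agent.Helper9.OutG Cfsg.Agent.Helper9.J3

set_option maxRecDepth 1000000 in
theorem cls_hclo_200 : allC (cloChk dD dC dE dCl) 200 99 = true := by decide +kernel

set_option maxRecDepth 1000000 in
theorem cls_hclo_201 : allC (cloChk dD dC dE dCl) 201 99 = true := by decide +kernel

set_option maxRecDepth 1000000 in
theorem cls_hclo_202 : allC (cloChk dD dC dE dCl) 202 99 = true := by decide +kernel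

set_option maxRecDepth 1000000 in
theorem cls_hclo_203 : allC (cloChk dD dC dE dCl) 203 99 = true := by decide +kernel

set_option maxRecDepth 1000000 in
theorem cls_hclo_204 : allC (cloChk dD dC dE dCl) 204 99 = true := by decide +kernel

set_option maxRecDepth 1000000 in
theorem cls_hclo_205 : allC (cloChk dD dC dE dCl) 205 99 = true := by decide +kernel

set_option maxRecDepth 1000000 in
theorem cls_hclo_206 : allC (cloChk dD dC dE dCl) 206 99 = true := by decide +kernel

set_option maxRecDepth 1000000 in
theorem cls_hclo_207 : allC (cloChk dD dC dE dCl) 207 99 = true := by decide +kernel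

set_option maxRecDepth 1000000 in
theorem cls_hclo_208 : allC (cloChk dD dC dE dCl) 208 99 = true := by decide +kernel

set_option maxRecDepth 1000000 in
theorem cls_hclo_209 : allC (cloChk dD dC dE dCl) 209 99 = true := by decide +kernel

set_option maxRecDepth 1000000 in
theorem cls_hclo_210 : allC (cloChk dD dC dE dCl) 210 99 = true := by decide +kernel

set_option maxRecDepth 1000000 in
theorem cls_hclo_211 : allC (cloChk dD dC dE dCl) 211 99 = true := by decide +kernel

set_option maxRecDepth 1000000 in
theorem cls_hclo_212 : allC (cloChk dD dC dE dCl) 212 99 = true := by decide +kernel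

set_option maxRecDepth 1000000 in
theorem cls_hclo_213 : allC (cloChk dD dC dE dCl) 213 99 = true := by decide +kernel

set_option maxRecDepth 1000000 in
theorem cls_hclo_214 : allC (cloChk dD dC dE dCl) 214 99 = true := by decide +kernel

set_option maxRecDepth 1000000 in
theorem cls_hclo_215 : allC (cloChk dD dC dE dCl) 215 99 = true := by decide +kernel

set_option maxRecDepth 1000000 in
theorem cls_hclo_216 : allC (cloChk dD dC dE dCl) 216 99 = true := by decide +kernel

set_option maxRecDepth 1000000 in
theorem cls_hclo_217 : allC (cloChk dD dC dE dCl) 217 99 = true := by decide +kernel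

set_option maxRecDepth 1000000 in
theorem cls_hclo_218 : allC (cloChk dD dC dE dCl) 218 99 = true := by decide +kernel

set_option maxRecDepth 1000000 in
theorem cls_hclo_219 : allC (cloChk dD dC dE dCl) 219 99 = true := by decide +kernel

set_option maxRecDepth 1000000 in
theorem cls_hclo_220 : allC (cloChk dD dC dE dCl) 220 99 = true := by decide +kernel

set_option maxRecDepth 1000000 in
theorem cls_hclo_221 : allC (cloChk dD dC dE dCl) 221 99 = true := by decide +kernel

set_option maxRecDepth 1000000 in
theorem cls_hclo_222 : allC (cloChk dD dC dE dCl) 222 99 = true := by decide +kernel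

set_option maxRecDepth 1000000 in
theorem cls_hclo_223 : allC (cloChk dD dC dE dCl) 223 99 = true := by decide +kernel

set_option maxRecDepth 1000000 in
theorem cls_hclo_224 : allC (cloChk dD dC dE dCl) 224 99 = true := by decide +kernel

end Cfsg.Agent.Helper9.Co2O

end
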