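import Mathlib
import Cfsg.Agent.Helper9.Co2O.Data

set_option autoImplicit false
set_option Elab.async false

/-! Kernel checks of the certificates, a part. -/

noncomputable section

namespace Cfsg.Agent.Helper9.Co2O

open Cfsg.Agent.Helper9.OutG Cfsg.Agent.Helper9.J3

set_option maxRecDepth 1000000 in
theorem cls_hclo_225 : allC (cloChk dD dC dE dCl) 225 99 = true := by decide +kernel

set_option maxRecDepth 1000000 in
theorem cls_hclo_226 : allC (cloChk dD dC dE dCl) 226 99 = true := by decide +kernel

set_option maxRecDepth 1000000 in
theorem cls_hclo_227 : allC (cloChk dD dC dE dCl) 227 99 = true := by decide +kernel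

set_option maxRecDepth 1000000 in
theorem cls_hclo_228 : allC (cloChk dD dC dE dCl) 228 99 = true := by decide +kernel

set_option maxRecDepth 1000000 in
theorem cls_hclo_229 : allC (cloChk dD dC dE dCl) 229 99 = true := by decide +kernel

set_option maxRecDepth 1000000 in
theorem cls_hclo_230 : allC (cloChk dD dC dE dCl) 230 99 = true := by decide +kernel

set_option maxRecDepth 1000000 in
theorem cls_hclo_231 : allC (cloChk dD dC dE dCl) 231 99 = true := by decide +kernel

set_option maxRecDepth 1000000 in
theorem cls_hclo_232 : allC (cloChk dD dC dE dCl) 232 99 = true := by decide +kernel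

set_option maxRecDepth 1000000 in
theorem cls_hclo_233 : allC (cloChk dD dC dE dCl) 233 99 = true := by decide +kernel

set_option maxRecDepth 1000000 in
theorem cls_hclo_234 : allC (cloChk dD dC dE dCl) 234 99 = true := by decide +kernel

set_option maxRecDepth 1000000 in
theorem cls_hclo_235 : allC (cloChk dD dC dE dCl) 235 99 = true := by decide +kernel

set_option maxRecDepth 1000000 in
theorem cls_hclo_236 : allC (cloChk dD dC dE dCl) 236 99 = true := by decide +kernel

set_option maxRecDepth 1000000 in
theorem cls_hclo_237 : allC (cloChk dD dC dE dCl) 237 99 = true := by decide +kernel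

set_option maxRecDepth 1000000 in
theorem cls_hclo_238 : allC (cloChk dD dC dE dCl) 238 99 = true := by decide +kernel

set_option maxRecDepth 1000000 in
theorem cls_hclo_239 : allC (cloChk dD dC dE dCl) 239 99 = true := by decide +kernel

set_option maxRecDepth 1000000 in
theorem cls_hclo_240 : allC (cloChk dD dC dE dCl) 240 99 = true := by decide +kernel

set_option maxRecDepth 1000000 in
theorem cls_hclo_241 : allC (cloChk dD dC dE dCl) 241 99 = true := by decide +kernel

set_option maxRecDepth 1000000 in
theorem cls_hclo_242 : allC (cloChk dD dC dE dCl) 242 99 = true := by decide +kernel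

set_option maxRecDepth 1000000 in
theorem cls_hclo_243 : allC (cloChk dD dC dE dCl) 243 99 = true := by decide +kernel

set_option maxRecDepth 1000000 in
theorem cls_hclo_244 : allC (cloChk dD dC dE dCl) 244 99 = true := by decide +kernel

set_option maxRecDepth 1000000 in
theorem cls_hclo_245 : allC (cloChk dD dC dE dCl) 245 99 = true := by decide +kernel

set_option maxRecDepth 1000000 in
theorem cls_hclo_246 : allC (cloChk dD dC dE dCl) 246 99 = true := by decide +kernel

set_option maxRecDepth 1000000 in
theorem cls_hclo_247 : allC (cloChk dD dC dE dCl) 247 99 = true := by decide +kernel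

set_option maxRecDepth 1000000 in
theorem cls_hclo_248 : allC (cloChk dD dC dE dCl) 248 99 = true := by decide +kernel

set_option maxRecDepth 1000000 in
theorem cls_hclo_249 : allC (cloChk dD dC dE dCl) 249 99 = true := by decide +kernel

end Cfsg.Agent.Helper9.Co2O

end
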