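import Mathlib
import Cfsg.Agent.Helper9.Co2O.Data

set_option autoImplicit false
set_option Elab.async false

/-! Kernel checks of the certificates, a part. -/

noncomputable section

namespace Cfsg.Agent.Helper9.Co2O

open Cfsg.Agent.Helper9.OutG Cfsg.Agent.Helper9.J3

set_option maxRecDepth 1000000 in
theorem dw_b_25 : allC (dwChk dD) 25 1 = true := by decide +kernel

set_option maxRecDepth 1000000 in
theorem dw_b_26 : allC (dwChk dD) 26 1 = true := by decide +kernel

set_option maxRecDepth 1000000 in
theorem dw_b_27 : allC (dwChk dD) 27 1 = true := by decide +kernel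

set_option maxRecDepth 1000000 in
theorem dw_b_28 : allC (dwChk dD) 28 1 = true := by decide +kernel

set_option maxRecDepth 1000000 in
theorem dw_b_29 : allC (dwChk dD) 29 1 = true := by decide +kernel

set_option maxRecDepth 1000000 in
theorem dw_b_30 : allC (dwChk dD) 30 1 = true := by decide +kernel

set_option maxRecDepth 1000000 in
theorem dw_b_31 : allC (dwChk dD) 31 1 = true := by decide +kernel

set_option maxRecDepth 1000000 in
theorem dw_b_32 : allC (dwChk dD) 32 1 = true := by decide +kernel

set_option maxRecDepth 1000000 in
theorem dw_b_33 : allC (dwChk dD) 33 1 = true := by decide +kernel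

set_option maxRecDepth 1000000 in
theorem dw_b_34 : allC (dwChk dD) 34 1 = true := by decide +kernel

set_option maxRecDepth 1000000 in
theorem dw_b_35 : allC (dwChk dD) 35 1 = true := by decide +kernel

set_option maxRecDepth 1000000 in
theorem dw_b_36 : allC (dwChk dD) 36 1 = true := by decide +kernel

set_option maxRecDepth 1000000 in
theorem dw_b_37 : allC (dwChk dD) 37 1 = true := by decide +kernel

set_option maxRecDepth 1000000 in
theorem dw_b_38 : allC (dwChk dD) 38 1 = true := by decide +kernel

set_option maxRecDepth 1000000 in
theorem dw_b_39 : allC (dwChk dD) 39 1 = true := by decide +kernel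

set_option maxRecDepth 1000000 in
theorem dw_b_40 : allC (dwChk dD) 40 1 = true := by decide +kernel

set_option maxRecDepth 1000000 in
theorem dw_b_41 : allC (dwChk dD) 41 1 = true := by decide +kernel

set_option maxRecDepth 1000000 in
theorem dw_b_42 : allC (dwChk dD) 42 1 = true := by decide +kernel

set_option maxRecDepth 1000000 in
theorem dw_b_43 : allC (dwChk dD) 43 1 = true := by decide +kernel

set_option maxRecDepth 1000000 in
theorem dw_b_44 : allC (dwChk dD) 44 1 = true := by decide +kernel

set_option maxRecDepth 1000000 in
theorem dw_b_45 : allC (dwChk dD) 45 1 = true := by decide +kernel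

set_option maxRecDepth 1000000 in
theorem dw_b_46 : allC (dwChk dD) 46 1 = true := by decide +kernel

set_option maxRecDepth 1000000 in
theorem dw_b_47 : allC (dwChk dD) 47 1 = true := by decide +kernel

set_option maxRecDepth 1000000 in
theorem dw_b_48 : allC (dwChk dD) 48 1 = true := by decide +kernel

set_option maxRecDepth 1000000 in
theorem dw_b_49 : allC (dwChk dD) 49 1 = true := by decide +kernel

end Cfsg.Agent.Helper9.Co2O

end
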