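import Mathlib
import Cfsg.Agent.Helper9.Co2O.Data

set_option autoImplicit false
set_option Elab.async false

/-! Kernel checks of the certificates, a part. -/

noncomputable section

namespace Cfsg.Agent.Helper9.Co2O

open Cfsg.Agent.Helper9.OutG Cfsg.Agent.Helper9.J3

set_option maxRecDepth 1000000 in
theorem dw_b_50 : allC (dwChk dD) 50 1 = true := by decide +kernel

set_option maxRecDepth 1000000 in
theorem dw_b_51 : allC (dwChk dD) 51 1 = true := by decide +kernel

set_option maxRecDepth 1000000 in
theorem dw_b_52 : allC (dwChk dD) 52 1 = true := by decide +kernel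

set_option maxRecDepth 1000000 in
theorem dw_b_53 : allC (dwChk dD) 53 1 = true := by decide +kernel

set_option maxRecDepth 1000000 in
theorem dw_b_54 : allC (dwChk dD) 54 1 = true := by decide +kernel

set_option maxRecDepth 1000000 in
theorem dw_b_55 : allC (dwChk dD) 55 1 = true := by decide +kernel

set_option maxRecDepth 1000000 in
theorem dw_b_56 : allC (dwChk dD) 56 1 = true := by decide +kernel

set_option maxRecDepth 1000000 in
theorem dw_b_57 : allC (dwChk dD) 57 1 = true := by decide +kernel

set_option maxRecDepth 1000000 in
theorem dw_b_58 : allC (dwChk dD) 58 1 = true := by decide +kernel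

set_option maxRecDepth 1000000 in
theorem dw_b_59 : allC (dwChk dD) 59 1 = true := by decide +kernel

set_option maxRecDepth 1000000 in
theorem dw_b_60 : allC (dwChk dD) 60 1 = true := by decide +kernel

set_option maxRecDepth 1000000 in
theorem dw_b_61 : allC (dwChk dD) 61 1 = true := by decide +kernel

set_option maxRecDepth 1000000 in
theorem dw_b_62 : allC (dwChk dD) 62 1 = true := by decide +kernel

set_option maxRecDepth 1000000 in
theorem dw_b_63 : allC (dwChk dD) 63 1 = true := by decide +kernel

set_option maxRecDepth 1000000 in
theorem dw_b_64 : allC (dwChk dD) 64 1 = true := by decide +kernel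

set_option maxRecDepth 1000000 in
theorem dw_b_65 : allC (dwChk dD) 65 1 = true := by decide +kernel

set_option maxRecDepth 1000000 in
theorem dw_b_66 : allC (dwChk dD) 66 1 = true := by decide +kernel

set_option maxRecDepth 1000000 in
theorem dw_b_67 : allC (dwChk dD) 67 1 = true := by decide +kernel

set_option maxRecDepth 1000000 in
theorem dw_b_68 : allC (dwChk dD) 68 1 = true := by decide +kernel

set_option maxRecDepth 1000000 in
theorem dw_b_69 : allC (dwChk dD) 69 1 = true := by decide +kernel

set_option maxRecDepth 1000000 in
theorem dw_b_70 : allC (dwChk dD) 70 1 = true := by decide +kernel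

set_option maxRecDepth 1000000 in
theorem dw_b_71 : allC (dwChk dD) 71 1 = true := by decide +kernel

set_option maxRecDepth 1000000 in
theorem dw_b_72 : allC (dwChk dD) 72 1 = true := by decide +kernel

set_option maxRecDepth 1000000 in
theorem dw_b_73 : allC (dwChk dD) 73 1 = true := by decide +kernel

set_option maxRecDepth 1000000 in
theorem dw_b_74 : allC (dwChk dD) 74 1 = true := by decide +kernel

end Cfsg.Agent.Helper9.Co2O

end
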