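import Mathlib
import Cfsg.Agent.Helper9.Co2O.Data

set_option autoImplicit false
set_option Elab.async false

/-! Kernel checks of the certificates, a part. -/

noncomputable section

namespace Cfsg.Agent.Helper9.Co2O

open Cfsg.Agent.Helper9.OutG Cfsg.Agent.Helper9.J3

set_option maxRecDepth 1000000 in
theorem dw_b_75 : allC (dwChk dD) 75 1 = true := by decide +kernel

set_option maxRecDepth 1000000 in
theorem dw_b_76 : allC (dwChk dD) 76 1 = true := by decide +kernel

set_option maxRecDepth 1000000 in
theorem dw_b_77 : allC (dwChk dD) 77 1 = true := by decide +kernel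

set_option maxRecDepth 1000000 in
theorem dw_b_78 : allC (dwChk dD) 78 1 = true := by decide +kernel

set_option maxRecDepth 1000000 in
theorem dw_b_79 : allC (dwChk dD) 79 1 = true := by decide +kernel

set_option maxRecDepth 1000000 in
theorem dw_b_80 : allC (dwChk dD) 80 1 = true := by decide +kernel

set_option maxRecDepth 1000000 in
theorem dw_b_81 : allC (dwChk dD) 81 1 = true := by decide +kernel

set_option maxRecDepth 1000000 in
theorem dw_b_82 : allC (dwChk dD) 82 1 = true := by decide +kernel

set_option maxRecDepth 1000000 in
theorem dw_b_83 : allC (dwChk dD) 83 1 = true := by decide +kernel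

set_option maxRecDepth 1000000 in
theorem dw_b_84 : allC (dwChk dD) 84 1 = true := by decide +kernel

set_option maxRecDepth 1000000 in
theorem dw_b_85 : allC (dwChk dD) 85 1 = true := by decide +kernel

set_option maxRecDepth 1000000 in
theorem dw_b_86 : allC (dwChk dD) 86 1 = true := by decide +kernel

set_option maxRecDepth 1000000 in
theorem dw_b_87 : allC (dwChk dD) 87 1 = true := by decide +kernel

set_option maxRecDepth 1000000 in
theorem dw_b_88 : allC (dwChk dD) 88 1 = true := by decide +kernel

set_option maxRecDepth 1000000 in
theorem dw_b_89 : allC (dwChk dD) 89 1 = true := by decide +kernel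

set_option maxRecDepth 1000000 in
theorem dw_b_90 : allC (dwChk dD) 90 1 = true := by decide +kernel

set_option maxRecDepth 1000000 in
theorem dw_b_91 : allC (dwChk dD) 91 1 = true := by decide +kernel

set_option maxRecDepth 1000000 in
theorem dw_b_92 : allC (dwChk dD) 92 1 = true := by decide +kernel

set_option maxRecDepth 1000000 in
theorem dw_b_93 : allC (dwChk dD) 93 1 = true := by decide +kernel

set_option maxRecDepth 1000000 in
theorem dw_b_94 : allC (dwChk dD) 94 1 = true := by decide +kernel

set_option maxRecDepth 1000000 in
theorem dw_b_95 : allC (dwChk dD) 95 1 = true := by decide +kernel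

set_option maxRecDepth 1000000 in
theorem dw_b_96 : allC (dwChk dD) 96 1 = true := by decide +kernel

set_option maxRecDepth 1000000 in
theorem dw_b_97 : allC (dwChk dD) 97 1 = true := by decide +kernel

set_option maxRecDepth 1000000 in
theorem dw_b_98 : allC (dwChk dD) 98 1 = true := by decide +kernel

set_option maxRecDepth 1000000 in
theorem dw_b_99 : allC (dwChk dD) 99 1 = true := by decide +kernel

end Cfsg.Agent.Helper9.Co2O

end
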