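import Mathlib
import Cfsg.Agent.Helper9.Co2O.Data

set_option autoImplicit false
set_option Elab.async false

/-! Kernel checks of the certificates, a part. -/

noncomputable section

namespace Cfsg.Agent.Helper9.Co2O

open Cfsg.Agent.Helper9.OutG Cfsg.Agent.Helper9.J3

set_option maxRecDepth 1000000 in
theorem gen_hpw_0 : allC (fun i => allB (fun x => Nat.beq (T dD dE.iA (pwT dD dE i x)) (pwT dD dE (Nat.mod (Nat.succ i) dE.p) x)) dD.n) 0 1 = true := by decide +kernel

set_option maxRecDepth 1000000 in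
theorem gen_hpw_1 : allC (fun i => allB (fun x => Nat.beq (T dD dE.iA (pwT dD dE i x)) (pwT dD dE (Nat.mod (Nat.succ i) dE.p) x)) dD.n) 1 1 = true := by decide +kernel

set_option maxRecDepth 1000000 in
theorem gen_hpw_2 : allC (fun i => allB (fun x => Nat.beq (T dD dE.iA (pwT dD dE i x)) (pwT dD dE (Nat.mod (Nat.succ i) dE.p) x)) dD.n) 2 1 = true := by decide +kernel

set_option maxRecDepth 1000000 in
theorem gen_hpw_3 : allC (fun i => allB (fun x => Nat.beq (T dD dE.iA (pwT dD dE i x)) (pwT dD dE (Nat.mod (Nat.succ i) dE.p) x)) dD.n) 3 1 = true := by decide +kernel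

set_option maxRecDepth 1000000 in
theorem gen_hpw_4 : allC (fun i => allB (fun x => Nat.beq (T dD dE.iA (pwT dD dE i x)) (pwT dD dE (Nat.mod (Nat.succ i) dE.p) x)) dD.n) 4 1 = true := by decide +kernel

set_option maxRecDepth 1000000 in
theorem gen_hpw_5 : allC (fun i => allB (fun x => Nat.beq (T dD dE.iA (pwT dD dE i x)) (pwT dD dE (Nat.mod (Nat.succ i) dE.p) x)) dD.n) 5 1 = true := by decide +kernel

set_option maxRecDepth 1000000 in
theorem gen_hpw_6 : allC (fun i => allB (fun x => Nat.beq (T dD dE.iA (pwT dD dE i x)) (pwT dD dE (Nat.mod (Nat.succ i) dE.p) x)) dD.n) 6 1 = true := by decide +kernel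

set_option maxRecDepth 1000000 in
theorem gen_hpw_7 : allC (fun i => allB (fun x => Nat.beq (T dD dE.iA (pwT dD dE i x)) (pwT dD dE (Nat.mod (Nat.succ i) dE.p) x)) dD.n) 7 1 = true := by decide +kernel

set_option maxRecDepth 1000000 in
theorem gen_hpw_8 : allC (fun i => allB (fun x => Nat.beq (T dD dE.iA (pwT dD dE i x)) (pwT dD dE (Nat.mod (Nat.succ i) dE.p) x)) dD.n) 8 1 = true := by decide +kernel

set_option maxRecDepth 1000000 in
theorem gen_hpw_9 : allC (fun i => allB (fun x => Nat.beq (T dD dE.iA (pwT dD dE i x)) (pwT dD dE (Nat.mod (Nat.succ i) dE.p) x)) dD.n) 9 1 = true := by decide +kernel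

set_option maxRecDepth 1000000 in
theorem gen_hpw_10 : allC (fun i => allB (fun x => Nat.beq (T dD dE.iA (pwT dD dE i x)) (pwT dD dE (Nat.mod (Nat.succ i) dE.p) x)) dD.n) 10 1 = true := by decide +kernel

set_option maxRecDepth 1000000 in
theorem gen_hpw_11 : allC (fun i => allB (fun x => Nat.beq (T dD dE.iA (pwT dD dE i x)) (pwT dD dE (Nat.mod (Nat.succ i) dE.p) x)) dD.n) 11 1 = true := by decide +kernel

set_option maxRecDepth 1000000 in
theorem gen_hpw_12 : allC (fun i => allB (fun x => Nat.beq (T dD dE.iA (pwT dD dE i x)) (pwT dD dE (Nat.mod (Nat.succ i) dE.p) x)) dD.n) 12 1 = true := by decide +kernel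

set_option maxRecDepth 1000000 in
theorem gen_hpw_13 : allC (fun i => allB (fun x => Nat.beq (T dD dE.iA (pwT dD dE i x)) (pwT dD dE (Nat.mod (Nat.succ i) dE.p) x)) dD.n) 13 1 = true := by decide +kernel

set_option maxRecDepth 1000000 in
theorem gen_hpw_14 : allC (fun i => allB (fun x => Nat.beq (T dD dE.iA (pwT dD dE i x)) (pwT dD dE (Nat.mod (Nat.succ i) dE.p) x)) dD.n) 14 1 = true := by decide +kernel

set_option maxRecDepth 1000000 in
theorem gen_hpw_15 : allC (fun i => allB (fun x => Nat.beq (T dD dE.iA (pwT dD dE i x)) (pwT dD dE (Nat.mod (Nat.succ i) dE.p) x)) dD.n) 15 1 = true := by decide +kernel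

set_option maxRecDepth 1000000 in
theorem gen_hpw_16 : allC (fun i => allB (fun x => Nat.beq (T dD dE.iA (pwT dD dE i x)) (pwT dD dE (Nat.mod (Nat.succ i) dE.p) x)) dD.n) 16 1 = true := by decide +kernel

set_option maxRecDepth 1000000 in
theorem gen_hpw_17 : allC (fun i => allB (fun x => Nat.beq (T dD dE.iA (pwT dD dE i x)) (pwT dD dE (Nat.mod (Nat.succ i) dE.p) x)) dD.n) 17 1 = true := by decide +kernel

set_option maxRecDepth 1000000 in
theorem gen_hpw_18 : allC (fun i => allB (fun x => Nat.beq (T dD dE.iA (pwT dD dE i x)) (pwT dD dE (Nat.mod (Nat.succ i) dE.p) x)) dD.n) 18 1 = true := by decide +kernel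

set_option maxRecDepth 1000000 in
theorem gen_hpw_19 : allC (fun i => allB (fun x => Nat.beq (T dD dE.iA (pwT dD dE i x)) (pwT dD dE (Nat.mod (Nat.succ i) dE.p) x)) dD.n) 19 1 = true := by decide +kernel

set_option maxRecDepth 1000000 in
theorem gen_hpw_20 : allC (fun i => allB (fun x => Nat.beq (T dD dE.iA (pwT dD dE i x)) (pwT dD dE (Nat.mod (Nat.succ i) dE.p) x)) dD.n) 20 1 = true := by decide +kernel

set_option maxRecDepth 1000000 in
theorem gen_hpw_21 : allC (fun i => allB (fun x => Nat.beq (T dD dE.iA (pwT dD dE i x)) (pwT dD dE (Nat.mod (Nat.succ i) dE.p) x)) dD.n) 21 1 = true := by decide +kernel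

set_option maxRecDepth 1000000 in
theorem gen_hpw_22 : allC (fun i => allB (fun x => Nat.beq (T dD dE.iA (pwT dD dE i x)) (pwT dD dE (Nat.mod (Nat.succ i) dE.p) x)) dD.n) 22 1 = true := by decide +kernel

end Cfsg.Agent.Helper9.Co2O

end
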