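import Mathlib
import Cfsg.Agent.Helper9.Co2O.Data

set_option autoImplicit false
set_option Elab.async false

/-! Kernel checks of the certificates, a part. -/

noncomputable section

namespace Cfsg.Agent.Helper9.Co2O

open Cfsg.Agent.Helper9.OutG Cfsg.Agent.Helper9.J3

set_option maxRecDepth 1000000 in
theorem tst_htst_25 : allC (testChk dD dC dE dCl dTs) 25 25 = true := by decide +kernel

set_option maxRecDepth 1000000 in
theorem tst_htst_26 : allC (testChk dD dC dE dCl dTs) 26 25 = true := by decide +kernel

set_option maxRecDepth 1000000 in
theorem tst_htst_27 : allC (testChk dD dC dE dCl dTs) 27 25 = true := by decide +kernel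

set_option maxRecDepth 1000000 in
theorem tst_htst_28 : allC (testChk dD dC dE dCl dTs) 28 25 = true := by decide +kernel

set_option maxRecDepth 1000000 in
theorem tst_htst_29 : allC (testChk dD dC dE dCl dTs) 29 25 = true := by decide +kernel

set_option maxRecDepth 1000000 in
theorem tst_htst_30 : allC (testChk dD dC dE dCl dTs) 30 25 = true := by decide +kernel

set_option maxRecDepth 1000000 in
theorem tst_htst_31 : allC (testChk dD dC dE dCl dTs) 31 25 = true := by decide +kernel

set_option maxRecDepth 1000000 in
theorem tst_htst_32 : allC (testChk dD dC dE dCl dTs) 32 25 = true := by decide +kernel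

set_option maxRecDepth 1000000 in
theorem tst_htst_33 : allC (testChk dD dC dE dCl dTs) 33 25 = true := by decide +kernel

set_option maxRecDepth 1000000 in
theorem tst_htst_34 : allC (testChk dD dC dE dCl dTs) 34 25 = true := by decide +kernel

set_option maxRecDepth 1000000 in
theorem tst_htst_35 : allC (testChk dD dC dE dCl dTs) 35 25 = true := by decide +kernel

set_option maxRecDepth 1000000 in
theorem tst_htst_36 : allC (testChk dD dC dE dCl dTs) 36 25 = true := by decide +kernel

set_option maxRecDepth 1000000 in
theorem tst_htst_37 : allC (testChk dD dC dE dCl dTs) 37 25 = true := by decide +kernel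

set_option maxRecDepth 1000000 in
theorem tst_htst_38 : allC (testChk dD dC dE dCl dTs) 38 25 = true := by decide +kernel

set_option maxRecDepth 1000000 in
theorem tst_htst_39 : allC (testChk dD dC dE dCl dTs) 39 25 = true := by decide +kernel

set_option maxRecDepth 1000000 in
theorem tst_htst_40 : allC (testChk dD dC dE dCl dTs) 40 25 = true := by decide +kernel

set_option maxRecDepth 1000000 in
theorem tst_htst_41 : allC (testChk dD dC dE dCl dTs) 41 25 = true := by decide +kernel

set_option maxRecDepth 1000000 in
theorem tst_htst_42 : allC (testChk dD dC dE dCl dTs) 42 25 = true := by decide +kernel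

set_option maxRecDepth 1000000 in
theorem tst_htst_43 : allC (testChk dD dC dE dCl dTs) 43 25 = true := by decide +kernel

set_option maxRecDepth 1000000 in
theorem tst_htst_44 : allC (testChk dD dC dE dCl dTs) 44 25 = true := by decide +kernel

set_option maxRecDepth 1000000 in
theorem tst_htst_45 : allC (testChk dD dC dE dCl dTs) 45 25 = true := by decide +kernel

set_option maxRecDepth 1000000 in
theorem tst_htst_46 : allC (testChk dD dC dE dCl dTs) 46 25 = true := by decide +kernel

set_option maxRecDepth 1000000 in
theorem tst_htst_47 : allC (testChk dD dC dE dCl dTs) 47 25 = true := by decide +kernel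

set_option maxRecDepth 1000000 in
theorem tst_htst_48 : allC (testChk dD dC dE dCl dTs) 48 25 = true := by decide +kernel

set_option maxRecDepth 1000000 in
theorem tst_htst_49 : allC (testChk dD dC dE dCl dTs) 49 25 = true := by decide +kernel

end Cfsg.Agent.Helper9.Co2O

end
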