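import Mathlib
import Cfsg.Agent.Helper9.Co2O.Data

set_option autoImplicit false
set_option Elab.async false

/-! Kernel checks of the certificates, a part. -/

noncomputable section

namespace Cfsg.Agent.Helper9.Co2O

open Cfsg.Agent.Helper9.OutG Cfsg.Agent.Helper9.J3

set_option maxRecDepth 1000000 in
theorem tst_htst_75 : allC (testChk dD dC dE dCl dTs) 75 25 = true := by decide +kernel

set_option maxRecDepth 1000000 in
theorem tst_htst_76 : allC (testChk dD dC dE dCl dTs) 76 25 = true := by decide +kernel

set_option maxRecDepth 1000000 in
theorem tst_htst_77 : allC (testChk dD dC dE dCl dTs) 77 25 = true := by decide +kernel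

set_option maxRecDepth 1000000 in
theorem tst_htst_78 : allC (testChk dD dC dE dCl dTs) 78 25 = true := by decide +kernel

set_option maxRecDepth 1000000 in
theorem tst_htst_79 : allC (testChk dD dC dE dCl dTs) 79 25 = true := by decide +kernel

set_option maxRecDepth 1000000 in
theorem tst_htst_80 : allC (testChk dD dC dE dCl dTs) 80 25 = true := by decide +kernel

set_option maxRecDepth 1000000 in
theorem tst_htst_81 : allC (testChk dD dC dE dCl dTs) 81 25 = true := by decide +kernel

set_option maxRecDepth 1000000 in
theorem tst_htst_82 : allC (testChk dD dC dE dCl dTs) 82 25 = true := by decide +kernel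

set_option maxRecDepth 1000000 in
theorem tst_htst_83 : allC (testChk dD dC dE dCl dTs) 83 25 = true := by decide +kernel

set_option maxRecDepth 1000000 in
theorem tst_htst_84 : allC (testChk dD dC dE dCl dTs) 84 25 = true := by decide +kernel

set_option maxRecDepth 1000000 in
theorem tst_htst_85 : allC (testChk dD dC dE dCl dTs) 85 25 = true := by decide +kernel

set_option maxRecDepth 1000000 in
theorem tst_htst_86 : allC (testChk dD dC dE dCl dTs) 86 25 = true := by decide +kernel

set_option maxRecDepth 1000000 in
theorem tst_htst_87 : allC (testChk dD dC dE dCl dTs) 87 25 = true := by decide +kernel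

set_option maxRecDepth 1000000 in
theorem tst_htst_88 : allC (testChk dD dC dE dCl dTs) 88 25 = true := by decide +kernel

set_option maxRecDepth 1000000 in
theorem tst_htst_89 : allC (testChk dD dC dE dCl dTs) 89 25 = true := by decide +kernel

set_option maxRecDepth 1000000 in
theorem tst_htst_90 : allC (testChk dD dC dE dCl dTs) 90 25 = true := by decide +kernel

set_option maxRecDepth 1000000 in
theorem tst_htst_91 : allC (testChk dD dC dE dCl dTs) 91 25 = true := by decide +kernel

set_option maxRecDepth 1000000 in
theorem tst_htst_92 : allC (testChk dD dC dE dCl dTs) 92 25 = true := by decide +kernel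

set_option maxRecDepth 1000000 in
theorem tst_htst_93 : allC (testChk dD dC dE dCl dTs) 93 25 = true := by decide +kernel

set_option maxRecDepth 1000000 in
theorem tst_htst_94 : allC (testChk dD dC dE dCl dTs) 94 25 = true := by decide +kernel

set_option maxRecDepth 1000000 in
theorem tst_htst_95 : allC (testChk dD dC dE dCl dTs) 95 25 = true := by decide +kernel

set_option maxRecDepth 1000000 in
theorem tst_htst_96 : allC (testChk dD dC dE dCl dTs) 96 25 = true := by decide +kernel

set_option maxRecDepth 1000000 in
theorem tst_htst_97 : allC (testChk dD dC dE dCl dTs) 97 25 = true := by decide +kernel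

set_option maxRecDepth 1000000 in
theorem tst_htst_98 : allC (testChk dD dC dE dCl dTs) 98 25 = true := by decide +kernel

set_option maxRecDepth 1000000 in
theorem tst_htst_99 : allC (testChk dD dC dE dCl dTs) 99 25 = true := by decide +kernel

end Cfsg.Agent.Helper9.Co2O

end
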