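import Mathlib
import Cfsg.Agent.Helper9.Co2O.Data

set_option autoImplicit false
set_option Elab.async false

/-! Kernel checks of the certificates, a part. -/

noncomputable section

namespace Cfsg.Agent.Helper9.Co2O

open Cfsg.Agent.Helper9.OutG Cfsg.Agent.Helper9.J3

set_option maxRecDepth 1000000 in
theorem tst_htst_100 : allC (testChk dD dC dE dCl dTs) 100 25 = true := by decide +kernel

set_option maxRecDepth 1000000 in
theorem tst_htst_101 : allC (testChk dD dC dE dCl dTs) 101 25 = true := by decide +kernel

set_option maxRecDepth 1000000 in
theorem tst_htst_102 : allC (testChk dD dC dE dCl dTs) 102 25 = true := by decide +kernel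

set_option maxRecDepth 1000000 in
theorem tst_htst_103 : allC (testChk dD dC dE dCl dTs) 103 25 = true := by decide +kernel

set_option maxRecDepth 1000000 in
theorem tst_htst_104 : allC (testChk dD dC dE dCl dTs) 104 25 = true := by decide +kernel

set_option maxRecDepth 1000000 in
theorem tst_htst_105 : allC (testChk dD dC dE dCl dTs) 105 25 = true := by decide +kernel

set_option maxRecDepth 1000000 in
theorem tst_htst_106 : allC (testChk dD dC dE dCl dTs) 106 25 = true := by decide +kernel

set_option maxRecDepth 1000000 in
theorem tst_htst_107 : allC (testChk dD dC dE dCl dTs) 107 25 = true := by decide +kernel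

set_option maxRecDepth 1000000 in
theorem tst_htst_108 : allC (testChk dD dC dE dCl dTs) 108 25 = true := by decide +kernel

set_option maxRecDepth 1000000 in
theorem tst_htst_109 : allC (testChk dD dC dE dCl dTs) 109 25 = true := by decide +kernel

set_option maxRecDepth 1000000 in
theorem tst_htst_110 : allC (testChk dD dC dE dCl dTs) 110 25 = true := by decide +kernel

set_option maxRecDepth 1000000 in
theorem tst_htst_111 : allC (testChk dD dC dE dCl dTs) 111 25 = true := by decide +kernel

set_option maxRecDepth 1000000 in
theorem tst_htst_112 : allC (testChk dD dC dE dCl dTs) 112 25 = true := by decide +kernel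

set_option maxRecDepth 1000000 in
theorem tst_htst_113 : allC (testChk dD dC dE dCl dTs) 113 25 = true := by decide +kernel

set_option maxRecDepth 1000000 in
theorem tst_htst_114 : allC (testChk dD dC dE dCl dTs) 114 25 = true := by decide +kernel

set_option maxRecDepth 1000000 in
theorem tst_htst_115 : allC (testChk dD dC dE dCl dTs) 115 25 = true := by decide +kernel

set_option maxRecDepth 1000000 in
theorem tst_htst_116 : allC (testChk dD dC dE dCl dTs) 116 25 = true := by decide +kernel

set_option maxRecDepth 1000000 in
theorem tst_htst_117 : allC (testChk dD dC dE dCl dTs) 117 25 = true := by decide +kernel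

set_option maxRecDepth 1000000 in
theorem tst_htst_118 : allC (testChk dD dC dE dCl dTs) 118 25 = true := by decide +kernel

set_option maxRecDepth 1000000 in
theorem tst_htst_119 : allC (testChk dD dC dE dCl dTs) 119 25 = true := by decide +kernel

set_option maxRecDepth 1000000 in
theorem tst_htst_120 : allC (testChk dD dC dE dCl dTs) 120 25 = true := by decide +kernel

set_option maxRecDepth 1000000 in
theorem tst_htst_121 : allC (testChk dD dC dE dCl dTs) 121 25 = true := by decide +kernel

set_option maxRecDepth 1000000 in
theorem tst_htst_122 : allC (testChk dD dC dE dCl dTs) 122 25 = true := by decide +kernel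

set_option maxRecDepth 1000000 in
theorem tst_htst_123 : allC (testChk dD dC dE dCl dTs) 123 25 = true := by decide +kernel

set_option maxRecDepth 1000000 in
theorem tst_htst_124 : allC (testChk dD dC dE dCl dTs) 124 25 = true := by decide +kernel

end Cfsg.Agent.Helper9.Co2O

end
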