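import Mathlib
import Cfsg.Agent.Helper9.Co2O.Data

set_option autoImplicit false
set_option Elab.async false

/-! Kernel checks of the certificates, a part. -/

noncomputable section

namespace Cfsg.Agent.Helper9.Co2O

open Cfsg.Agent.Helper9.OutG Cfsg.Agent.Helper9.J3

set_option maxRecDepth 1000000 in
theorem tst_htst_125 : allC (testChk dD dC dE dCl dTs) 125 25 = true := by decide +kernel

set_option maxRecDepth 1000000 in
theorem tst_htst_126 : allC (testChk dD dC dE dCl dTs) 126 25 = true := by decide +kernel

set_option maxRecDepth 1000000 in
theorem tst_htst_127 : allC (testChk dD dC dE dCl dTs) 127 25 = true := by decide +kernel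

set_option maxRecDepth 1000000 in
theorem tst_htst_128 : allC (testChk dD dC dE dCl dTs) 128 25 = true := by decide +kernel

set_option maxRecDepth 1000000 in
theorem tst_htst_129 : allC (testChk dD dC dE dCl dTs) 129 25 = true := by decide +kernel

set_option maxRecDepth 1000000 in
theorem tst_htst_130 : allC (testChk dD dC dE dCl dTs) 130 25 = true := by decide +kernel

set_option maxRecDepth 1000000 in
theorem tst_htst_131 : allC (testChk dD dC dE dCl dTs) 131 25 = true := by decide +kernel

set_option maxRecDepth 1000000 in
theorem tst_htst_132 : allC (testChk dD dC dE dCl dTs) 132 25 = true := by decide +kernel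

set_option maxRecDepth 1000000 in
theorem tst_htst_133 : allC (testChk dD dC dE dCl dTs) 133 25 = true := by decide +kernel

set_option maxRecDepth 1000000 in
theorem tst_htst_134 : allC (testChk dD dC dE dCl dTs) 134 25 = true := by decide +kernel

set_option maxRecDepth 1000000 in
theorem tst_htst_135 : allC (testChk dD dC dE dCl dTs) 135 25 = true := by decide +kernel

set_option maxRecDepth 1000000 in
theorem tst_htst_136 : allC (testChk dD dC dE dCl dTs) 136 25 = true := by decide +kernel

set_option maxRecDepth 1000000 in
theorem tst_htst_137 : allC (testChk dD dC dE dCl dTs) 137 25 = true := by decide +kernel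

set_option maxRecDepth 1000000 in
theorem tst_htst_138 : allC (testChk dD dC dE dCl dTs) 138 25 = true := by decide +kernel

set_option maxRecDepth 1000000 in
theorem tst_htst_139 : allC (testChk dD dC dE dCl dTs) 139 25 = true := by decide +kernel

set_option maxRecDepth 1000000 in
theorem tst_htst_140 : allC (testChk dD dC dE dCl dTs) 140 25 = true := by decide +kernel

set_option maxRecDepth 1000000 in
theorem tst_htst_141 : allC (testChk dD dC dE dCl dTs) 141 25 = true := by decide +kernel

set_option maxRecDepth 1000000 in
theorem tst_htst_142 : allC (testChk dD dC dE dCl dTs) 142 25 = true := by decide +kernel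

set_option maxRecDepth 1000000 in
theorem tst_htst_143 : allC (testChk dD dC dE dCl dTs) 143 25 = true := by decide +kernel

set_option maxRecDepth 1000000 in
theorem tst_htst_144 : allC (testChk dD dC dE dCl dTs) 144 25 = true := by decide +kernel

set_option maxRecDepth 1000000 in
theorem tst_htst_145 : allC (testChk dD dC dE dCl dTs) 145 25 = true := by decide +kernel

set_option maxRecDepth 1000000 in
theorem tst_htst_146 : allC (testChk dD dC dE dCl dTs) 146 25 = true := by decide +kernel

set_option maxRecDepth 1000000 in
theorem tst_htst_147 : allC (testChk dD dC dE dCl dTs) 147 25 = true := by decide +kernel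

set_option maxRecDepth 1000000 in
theorem tst_htst_148 : allC (testChk dD dC dE dCl dTs) 148 25 = true := by decide +kernel

set_option maxRecDepth 1000000 in
theorem tst_htst_149 : allC (testChk dD dC dE dCl dTs) 149 25 = true := by decide +kernel

end Cfsg.Agent.Helper9.Co2O

end
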