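import Mathlib
import Cfsg.Agent.Helper9.Co2O.Data

set_option autoImplicit false
set_option Elab.async false

/-! Kernel checks of the certificates, a part. -/

noncomputable section

namespace Cfsg.Agent.Helper9.Co2O

open Cfsg.Agent.Helper9.OutG Cfsg.Agent.Helper9.J3

set_option maxRecDepth 1000000 in
theorem tst_htst_150 : allC (testChk dD dC dE dCl dTs) 150 25 = true := by decide +kernel

set_option maxRecDepth 1000000 in
theorem tst_htst_151 : allC (testChk dD dC dE dCl dTs) 151 25 = true := by decide +kernel

set_option maxRecDepth 1000000 in
theorem tst_htst_152 : allC (testChk dD dC dE dCl dTs) 152 25 = true := by decide +kernel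

set_option maxRecDepth 1000000 in
theorem tst_htst_153 : allC (testChk dD dC dE dCl dTs) 153 25 = true := by decide +kernel

set_option maxRecDepth 1000000 in
theorem tst_htst_154 : allC (testChk dD dC dE dCl dTs) 154 25 = true := by decide +kernel

set_option maxRecDepth 1000000 in
theorem tst_htst_155 : allC (testChk dD dC dE dCl dTs) 155 25 = true := by decide +kernel

set_option maxRecDepth 1000000 in
theorem tst_htst_156 : allC (testChk dD dC dE dCl dTs) 156 25 = true := by decide +kernel

set_option maxRecDepth 1000000 in
theorem tst_htst_157 : allC (testChk dD dC dE dCl dTs) 157 25 = true := by decide +kernel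

set_option maxRecDepth 1000000 in
theorem tst_htst_158 : allC (testChk dD dC dE dCl dTs) 158 25 = true := by decide +kernel

set_option maxRecDepth 1000000 in
theorem tst_htst_159 : allC (testChk dD dC dE dCl dTs) 159 25 = true := by decide +kernel

set_option maxRecDepth 1000000 in
theorem tst_htst_160 : allC (testChk dD dC dE dCl dTs) 160 25 = true := by decide +kernel

set_option maxRecDepth 1000000 in
theorem tst_htst_161 : allC (testChk dD dC dE dCl dTs) 161 25 = true := by decide +kernel

set_option maxRecDepth 1000000 in
theorem tst_htst_162 : allC (testChk dD dC dE dCl dTs) 162 25 = true := by decide +kernel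

set_option maxRecDepth 1000000 in
theorem tst_htst_163 : allC (testChk dD dC dE dCl dTs) 163 25 = true := by decide +kernel

set_option maxRecDepth 1000000 in
theorem tst_htst_164 : allC (testChk dD dC dE dCl dTs) 164 25 = true := by decide +kernel

set_option maxRecDepth 1000000 in
theorem tst_htst_165 : allC (testChk dD dC dE dCl dTs) 165 25 = true := by decide +kernel

set_option maxRecDepth 1000000 in
theorem tst_htst_166 : allC (testChk dD dC dE dCl dTs) 166 25 = true := by decide +kernel

set_option maxRecDepth 1000000 in
theorem tst_htst_167 : allC (testChk dD dC dE dCl dTs) 167 25 = true := by decide +kernel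

set_option maxRecDepth 1000000 in
theorem tst_htst_168 : allC (testChk dD dC dE dCl dTs) 168 25 = true := by decide +kernel

set_option maxRecDepth 1000000 in
theorem tst_htst_169 : allC (testChk dD dC dE dCl dTs) 169 25 = true := by decide +kernel

set_option maxRecDepth 1000000 in
theorem tst_htst_170 : allC (testChk dD dC dE dCl dTs) 170 25 = true := by decide +kernel

set_option maxRecDepth 1000000 in
theorem tst_htst_171 : allC (testChk dD dC dE dCl dTs) 171 25 = true := by decide +kernel

set_option maxRecDepth 1000000 in
theorem tst_htst_172 : allC (testChk dD dC dE dCl dTs) 172 25 = true := by decide +kernel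

set_option maxRecDepth 1000000 in
theorem tst_htst_173 : allC (testChk dD dC dE dCl dTs) 173 25 = true := by decide +kernel

set_option maxRecDepth 1000000 in
theorem tst_htst_174 : allC (testChk dD dC dE dCl dTs) 174 25 = true := by decide +kernel

end Cfsg.Agent.Helper9.Co2O

end
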