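import Mathlib
import Cfsg.Agent.Helper9.Co2O.Data

set_option autoImplicit false
set_option Elab.async false

/-! Kernel checks of the certificates, a part. -/

noncomputable section

namespace Cfsg.Agent.Helper9.Co2O

open Cfsg.Agent.Helper9.OutG Cfsg.Agent.Helper9.J3

set_option maxRecDepth 1000000 in
theorem tst_htst_175 : allC (testChk dD dC dE dCl dTs) 175 25 = true := by decide +kernel

set_option maxRecDepth 1000000 in
theorem tst_htst_176 : allC (testChk dD dC dE dCl dTs) 176 25 = true := by decide +kernel

set_option maxRecDepth 1000000 in
theorem tst_htst_177 : allC (testChk dD dC dE dCl dTs) 177 25 = true := by decide +kernel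

set_option maxRecDepth 1000000 in
theorem tst_htst_178 : allC (testChk dD dC dE dCl dTs) 178 25 = true := by decide +kernel

set_option maxRecDepth 1000000 in
theorem tst_htst_179 : allC (testChk dD dC dE dCl dTs) 179 25 = true := by decide +kernel

set_option maxRecDepth 1000000 in
theorem tst_htst_180 : allC (testChk dD dC dE dCl dTs) 180 25 = true := by decide +kernel

set_option maxRecDepth 1000000 in
theorem tst_htst_181 : allC (testChk dD dC dE dCl dTs) 181 25 = true := by decide +kernel

set_option maxRecDepth 1000000 in
theorem tst_htst_182 : allC (testChk dD dC dE dCl dTs) 182 25 = true := by decide +kernel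

set_option maxRecDepth 1000000 in
theorem tst_htst_183 : allC (testChk dD dC dE dCl dTs) 183 25 = true := by decide +kernel

set_option maxRecDepth 1000000 in
theorem tst_htst_184 : allC (testChk dD dC dE dCl dTs) 184 25 = true := by decide +kernel

set_option maxRecDepth 1000000 in
theorem tst_htst_185 : allC (testChk dD dC dE dCl dTs) 185 25 = true := by decide +kernel

set_option maxRecDepth 1000000 in
theorem tst_htst_186 : allC (testChk dD dC dE dCl dTs) 186 25 = true := by decide +kernel

set_option maxRecDepth 1000000 in
theorem tst_htst_187 : allC (testChk dD dC dE dCl dTs) 187 25 = true := by decide +kernel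

set_option maxRecDepth 1000000 in
theorem tst_htst_188 : allC (testChk dD dC dE dCl dTs) 188 25 = true := by decide +kernel

set_option maxRecDepth 1000000 in
theorem tst_htst_189 : allC (testChk dD dC dE dCl dTs) 189 25 = true := by decide +kernel

set_option maxRecDepth 1000000 in
theorem tst_htst_190 : allC (testChk dD dC dE dCl dTs) 190 25 = true := by decide +kernel

set_option maxRecDepth 1000000 in
theorem tst_htst_191 : allC (testChk dD dC dE dCl dTs) 191 25 = true := by decide +kernel

set_option maxRecDepth 1000000 in
theorem tst_htst_192 : allC (testChk dD dC dE dCl dTs) 192 25 = true := by decide +kernel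

set_option maxRecDepth 1000000 in
theorem tst_htst_193 : allC (testChk dD dC dE dCl dTs) 193 25 = true := by decide +kernel

set_option maxRecDepth 1000000 in
theorem tst_htst_194 : allC (testChk dD dC dE dCl dTs) 194 25 = true := by decide +kernel

set_option maxRecDepth 1000000 in
theorem tst_htst_195 : allC (testChk dD dC dE dCl dTs) 195 25 = true := by decide +kernel

set_option maxRecDepth 1000000 in
theorem tst_htst_196 : allC (testChk dD dC dE dCl dTs) 196 25 = true := by decide +kernel

set_option maxRecDepth 1000000 in
theorem tst_htst_197 : allC (testChk dD dC dE dCl dTs) 197 25 = true := by decide +kernel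

end Cfsg.Agent.Helper9.Co2O

end
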