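import Mathlib
import Cfsg.Agent.Helper9.Co2O.Data

set_option autoImplicit false
set_option Elab.async false

/-! Kernel checks of the certificates, a part. -/

noncomputable section

namespace Cfsg.Agent.Helper9.Co2O

open Cfsg.Agent.Helper9.OutG Cfsg.Agent.Helper9.J3

set_option maxRecDepth 1000000 in
theorem syl_wit_0 : allC (witChk dD dS) 0 2048 = true := by decide +kernel

set_option maxRecDepth 1000000 in
theorem syl_wit_1 : allC (witChk dD dS) 1 2048 = true := by decide +kernel

set_option maxRecDepth 1000000 in
theorem syl_wit_2 : allC (witChk dD dS) 2 2048 = true := by decide +kernel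

set_option maxRecDepth 1000000 in
theorem syl_wit_3 : allC (witChk dD dS) 3 2048 = true := by decide +kernel

set_option maxRecDepth 1000000 in
theorem syl_wit_4 : allC (witChk dD dS) 4 2048 = true := by decide +kernel

set_option maxRecDepth 1000000 in
theorem syl_wit_5 : allC (witChk dD dS) 5 2048 = true := by decide +kernel

set_option maxRecDepth 1000000 in
theorem syl_wit_6 : allC (witChk dD dS) 6 2048 = true := by decide +kernel

set_option maxRecDepth 1000000 in
theorem syl_wit_7 : allC (witChk dD dS) 7 2048 = true := by decide +kernel

set_option maxRecDepth 1000000 in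
theorem syl_wit_8 : allC (witChk dD dS) 8 2048 = true := by decide +kernel

set_option maxRecDepth 1000000 in
theorem syl_wit_9 : allC (witChk dD dS) 9 2048 = true := by decide +kernel

set_option maxRecDepth 1000000 in
theorem syl_wit_10 : allC (witChk dD dS) 10 2048 = true := by decide +kernel

set_option maxRecDepth 1000000 in
theorem syl_wit_11 : allC (witChk dD dS) 11 2048 = true := by decide +kernel

set_option maxRecDepth 1000000 in
theorem syl_wit_12 : allC (witChk dD dS) 12 2048 = true := by decide +kernel

set_option maxRecDepth 1000000 in
theorem syl_wit_13 : allC (witChk dD dS) 13 2048 = true := by decide +kernel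

set_option maxRecDepth 1000000 in
theorem syl_wit_14 : allC (witChk dD dS) 14 2048 = true := by decide +kernel

set_option maxRecDepth 1000000 in
theorem syl_wit_15 : allC (witChk dD dS) 15 2048 = true := by decide +kernel

set_option maxRecDepth 1000000 in
theorem syl_wit_16 : allC (witChk dD dS) 16 2048 = true := by decide +kernel

set_option maxRecDepth 1000000 in
theorem syl_wit_17 : allC (witChk dD dS) 17 2048 = true := by decide +kernel

set_option maxRecDepth 1000000 in
theorem syl_wit_18 : allC (witChk dD dS) 18 2048 = true := by decide +kernel

set_option maxRecDepth 1000000 in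
theorem syl_wit_19 : allC (witChk dD dS) 19 2048 = true := by decide +kernel

set_option maxRecDepth 1000000 in
theorem syl_wit_20 : allC (witChk dD dS) 20 2048 = true := by decide +kernel

set_option maxRecDepth 1000000 in
theorem syl_wit_21 : allC (witChk dD dS) 21 2048 = true := by decide +kernel

set_option maxRecDepth 1000000 in
theorem syl_wit_22 : allC (witChk dD dS) 22 2048 = true := by decide +kernel

set_option maxRecDepth 1000000 in
theorem syl_wit_23 : allC (witChk dD dS) 23 2048 = true := by decide +kernel

set_option maxRecDepth 1000000 in
theorem syl_wit_24 : allC (witChk dD dS) 24 2048 = true := by decide +kernel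

end Cfsg.Agent.Helper9.Co2O

end
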