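import Mathlib
import Cfsg.Agent.Helper9.Co2O.Data

set_option autoImplicit false
set_option Elab.async false

/-! Kernel checks of the certificates, a part. -/

noncomputable section

namespace Cfsg.Agent.Helper9.Co2O

open Cfsg.Agent.Helper9.OutG Cfsg.Agent.Helper9.J3

set_option maxRecDepth 1000000 in
theorem syl_wit_25 : allC (witChk dD dS) 25 2048 = true := by decide +kernel

set_option maxRecDepth 1000000 in
theorem syl_wit_26 : allC (witChk dD dS) 26 2048 = true := by decide +kernel

set_option maxRecDepth 1000000 in
theorem syl_wit_27 : allC (witChk dD dS) 27 2048 = true := by decide +kernel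

set_option maxRecDepth 1000000 in
theorem syl_wit_28 : allC (witChk dD dS) 28 2048 = true := by decide +kernel

set_option maxRecDepth 1000000 in
theorem syl_wit_29 : allC (witChk dD dS) 29 2048 = true := by decide +kernel

set_option maxRecDepth 1000000 in
theorem syl_wit_30 : allC (witChk dD dS) 30 2048 = true := by decide +kernel

set_option maxRecDepth 1000000 in
theorem syl_wit_31 : allC (witChk dD dS) 31 2048 = true := by decide +kernel

set_option maxRecDepth 1000000 in
theorem syl_wit_32 : allC (witChk dD dS) 32 2048 = true := by decide +kernel

set_option maxRecDepth 1000000 in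
theorem syl_wit_33 : allC (witChk dD dS) 33 2048 = true := by decide +kernel

set_option maxRecDepth 1000000 in
theorem syl_wit_34 : allC (witChk dD dS) 34 2048 = true := by decide +kernel

set_option maxRecDepth 1000000 in
theorem syl_wit_35 : allC (witChk dD dS) 35 2048 = true := by decide +kernel

set_option maxRecDepth 1000000 in
theorem syl_wit_36 : allC (witChk dD dS) 36 2048 = true := by decide +kernel

set_option maxRecDepth 1000000 in
theorem syl_wit_37 : allC (witChk dD dS) 37 2048 = true := by decide +kernel

set_option maxRecDepth 1000000 in
theorem syl_wit_38 : allC (witChk dD dS) 38 2048 = true := by decide +kernel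

set_option maxRecDepth 1000000 in
theorem syl_wit_39 : allC (witChk dD dS) 39 2048 = true := by decide +kernel

set_option maxRecDepth 1000000 in
theorem syl_wit_40 : allC (witChk dD dS) 40 2048 = true := by decide +kernel

set_option maxRecDepth 1000000 in
theorem syl_wit_41 : allC (witChk dD dS) 41 2048 = true := by decide +kernel

set_option maxRecDepth 1000000 in
theorem syl_wit_42 : allC (witChk dD dS) 42 2048 = true := by decide +kernel

set_option maxRecDepth 1000000 in
theorem syl_wit_43 : allC (witChk dD dS) 43 2048 = true := by decide +kernel

set_option maxRecDepth 1000000 in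
theorem syl_wit_44 : allC (witChk dD dS) 44 2048 = true := by decide +kernel

set_option maxRecDepth 1000000 in
theorem syl_wit_45 : allC (witChk dD dS) 45 2048 = true := by decide +kernel

set_option maxRecDepth 1000000 in
theorem syl_wit_46 : allC (witChk dD dS) 46 2048 = true := by decide +kernel

set_option maxRecDepth 1000000 in
theorem syl_wit_47 : allC (witChk dD dS) 47 2048 = true := by decide +kernel

set_option maxRecDepth 1000000 in
theorem syl_wit_48 : allC (witChk dD dS) 48 2048 = true := by decide +kernel

set_option maxRecDepth 1000000 in
theorem syl_wit_49 : allC (witChk dD dS) 49 2048 = true := by decide +kernel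

end Cfsg.Agent.Helper9.Co2O

end
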