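import Mathlib
import Cfsg.Agent.Helper9.Co2O.Data

set_option autoImplicit false
set_option Elab.async false

/-! Kernel checks of the certificates, a part. -/

noncomputable section

namespace Cfsg.Agent.Helper9.Co2O

open Cfsg.Agent.Helper9.OutG Cfsg.Agent.Helper9.J3

set_option maxRecDepth 1000000 in
theorem syl_wit_75 : allC (witChk dD dS) 75 2048 = true := by decide +kernel

set_option maxRecDepth 1000000 in
theorem syl_wit_76 : allC (witChk dD dS) 76 2048 = true := by decide +kernel

set_option maxRecDepth 1000000 in
theorem syl_wit_77 : allC (witChk dD dS) 77 2048 = true := by decide +kernel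

set_option maxRecDepth 1000000 in
theorem syl_wit_78 : allC (witChk dD dS) 78 2048 = true := by decide +kernel

set_option maxRecDepth 1000000 in
theorem syl_wit_79 : allC (witChk dD dS) 79 2048 = true := by decide +kernel

set_option maxRecDepth 1000000 in
theorem syl_wit_80 : allC (witChk dD dS) 80 2048 = true := by decide +kernel

set_option maxRecDepth 1000000 in
theorem syl_wit_81 : allC (witChk dD dS) 81 2048 = true := by decide +kernel

set_option maxRecDepth 1000000 in
theorem syl_wit_82 : allC (witChk dD dS) 82 2048 = true := by decide +kernel

set_option maxRecDepth 1000000 in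
theorem syl_wit_83 : allC (witChk dD dS) 83 2048 = true := by decide +kernel

set_option maxRecDepth 1000000 in
theorem syl_wit_84 : allC (witChk dD dS) 84 2048 = true := by decide +kernel

set_option maxRecDepth 1000000 in
theorem syl_wit_85 : allC (witChk dD dS) 85 2048 = true := by decide +kernel

set_option maxRecDepth 1000000 in
theorem syl_wit_86 : allC (witChk dD dS) 86 2048 = true := by decide +kernel

set_option maxRecDepth 1000000 in
theorem syl_wit_87 : allC (witChk dD dS) 87 2048 = true := by decide +kernel

set_option maxRecDepth 1000000 in
theorem syl_wit_88 : allC (witChk dD dS) 88 2048 = true := by decide +kernel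

set_option maxRecDepth 1000000 in
theorem syl_wit_89 : allC (witChk dD dS) 89 2048 = true := by decide +kernel

set_option maxRecDepth 1000000 in
theorem syl_wit_90 : allC (witChk dD dS) 90 2048 = true := by decide +kernel

set_option maxRecDepth 1000000 in
theorem syl_wit_91 : allC (witChk dD dS) 91 2048 = true := by decide +kernel

set_option maxRecDepth 1000000 in
theorem syl_wit_92 : allC (witChk dD dS) 92 2048 = true := by decide +kernel

set_option maxRecDepth 1000000 in
theorem syl_wit_93 : allC (witChk dD dS) 93 2048 = true := by decide +kernel

set_option maxRecDepth 1000000 in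
theorem syl_wit_94 : allC (witChk dD dS) 94 2048 = true := by decide +kernel

set_option maxRecDepth 1000000 in
theorem syl_wit_95 : allC (witChk dD dS) 95 2048 = true := by decide +kernel

set_option maxRecDepth 1000000 in
theorem syl_wit_96 : allC (witChk dD dS) 96 2048 = true := by decide +kernel

set_option maxRecDepth 1000000 in
theorem syl_wit_97 : allC (witChk dD dS) 97 2048 = true := by decide +kernel

set_option maxRecDepth 1000000 in
theorem syl_wit_98 : allC (witChk dD dS) 98 2048 = true := by decide +kernel

set_option maxRecDepth 1000000 in
theorem syl_wit_99 : allC (witChk dD dS) 99 2048 = true := by decide +kernel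

end Cfsg.Agent.Helper9.Co2O

end
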