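import Mathlib
import Cfsg.Agent.Helper9.Co2O.Data

set_option autoImplicit false
set_option Elab.async false

/-! Kernel checks of the certificates, a part. -/

noncomputable section

namespace Cfsg.Agent.Helper9.Co2O

open Cfsg.Agent.Helper9.OutG Cfsg.Agent.Helper9.J3

set_option maxRecDepth 1000000 in
theorem syl_wit_100 : allC (witChk dD dS) 100 2048 = true := by decide +kernel

set_option maxRecDepth 1000000 in
theorem syl_wit_101 : allC (witChk dD dS) 101 2048 = true := by decide +kernel

set_option maxRecDepth 1000000 in
theorem syl_wit_102 : allC (witChk dD dS) 102 2048 = true := by decide +kernel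

set_option maxRecDepth 1000000 in
theorem syl_wit_103 : allC (witChk dD dS) 103 2048 = true := by decide +kernel

set_option maxRecDepth 1000000 in
theorem syl_wit_104 : allC (witChk dD dS) 104 2048 = true := by decide +kernel

set_option maxRecDepth 1000000 in
theorem syl_wit_105 : allC (witChk dD dS) 105 2048 = true := by decide +kernel

set_option maxRecDepth 1000000 in
theorem syl_wit_106 : allC (witChk dD dS) 106 2048 = true := by decide +kernel

set_option maxRecDepth 1000000 in
theorem syl_wit_107 : allC (witChk dD dS) 107 2048 = true := by decide +kernel

set_option maxRecDepth 1000000 in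
theorem syl_wit_108 : allC (witChk dD dS) 108 2048 = true := by decide +kernel

set_option maxRecDepth 1000000 in
theorem syl_wit_109 : allC (witChk dD dS) 109 2048 = true := by decide +kernel

set_option maxRecDepth 1000000 in
theorem syl_wit_110 : allC (witChk dD dS) 110 2048 = true := by decide +kernel

set_option maxRecDepth 1000000 in
theorem syl_wit_111 : allC (witChk dD dS) 111 2048 = true := by decide +kernel

set_option maxRecDepth 1000000 in
theorem syl_wit_112 : allC (witChk dD dS) 112 2048 = true := by decide +kernel

set_option maxRecDepth 1000000 in
theorem syl_wit_113 : allC (witChk dD dS) 113 2048 = true := by decide +kernel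

set_option maxRecDepth 1000000 in
theorem syl_wit_114 : allC (witChk dD dS) 114 2048 = true := by decide +kernel

set_option maxRecDepth 1000000 in
theorem syl_wit_115 : allC (witChk dD dS) 115 2048 = true := by decide +kernel

set_option maxRecDepth 1000000 in
theorem syl_wit_116 : allC (witChk dD dS) 116 2048 = true := by decide +kernel

set_option maxRecDepth 1000000 in
theorem syl_wit_117 : allC (witChk dD dS) 117 2048 = true := by decide +kernel

set_option maxRecDepth 1000000 in
theorem syl_wit_118 : allC (witChk dD dS) 118 2048 = true := by decide +kernel

set_option maxRecDepth 1000000 in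
theorem syl_wit_119 : allC (witChk dD dS) 119 2048 = true := by decide +kernel

set_option maxRecDepth 1000000 in
theorem syl_wit_120 : allC (witChk dD dS) 120 2048 = true := by decide +kernel

set_option maxRecDepth 1000000 in
theorem syl_wit_121 : allC (witChk dD dS) 121 2048 = true := by decide +kernel

set_option maxRecDepth 1000000 in
theorem syl_wit_122 : allC (witChk dD dS) 122 2048 = true := by decide +kernel

set_option maxRecDepth 1000000 in
theorem syl_wit_123 : allC (witChk dD dS) 123 2048 = true := by decide +kernel

set_option maxRecDepth 1000000 in
theorem syl_wit_124 : allC (witChk dD dS) 124 2048 = true := by decide +kernel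

end Cfsg.Agent.Helper9.Co2O

end
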