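import Mathlib
import Cfsg.Agent.Helper9.Co2O.Data
import Cfsg.Agent.Helper9.Co2O.ChkA0
import Cfsg.Agent.Helper9.Co2O.ChkA1
import Cfsg.Agent.Helper9.Co2O.ChkA2
import Cfsg.Agent.Helper9.Co2O.ChkA3
import Cfsg.Agent.Helper9.Co2O.ChkD0
import Cfsg.Agent.Helper9.Co2O.ChkD1
import Cfsg.Agent.Helper9.Co2O.ChkD2
import Cfsg.Agent.Helper9.Co2O.ChkD3
import Cfsg.Agent.Helper9.Co2O.ChkL0
import Cfsg.Agent.Helper9.Co2O.ChkP0
import Cfsg.Agent.Helper9.Co2O.ChkW0
import Cfsg.Agent.Helper9.Co2O.ChkW1
import Cfsg.Agent.Helper9.Co2O.ChkW2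
import Cfsg.Agent.Helper9.Co2O.ChkW3
import Cfsg.Agent.Helper9.Co2O.ChkW4
import Cfsg.Agent.Helper9.Co2O.ChkW5
import Cfsg.Agent.Helper9.Co2O.ChkC0
import Cfsg.Agent.Helper9.Co2O.ChkC1
import Cfsg.Agent.Helper9.Co2O.ChkC2
import Cfsg.Agent.Helper9.Co2O.ChkC3
import Cfsg.Agent.Helper9.Co2O.ChkC4
import Cfsg.Agent.Helper9.Co2O.ChkC5
import Cfsg.Agent.Helper9.Co2O.ChkC6
import Cfsg.Agent.Helper9.Co2O.ChkC7
import Cfsg.Agent.Helper9.Co2O.ChkC8
import Cfsg.Agent.Helper9.Co2O.ChkC9
import Cfsg.Agent.Helper9.Co2O.ChkC10
import Cfsg.Agent.Helper9.Co2O.ChkC11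
import Cfsg.Agent.Helper9.Co2O.ChkC12
import Cfsg.Agent.Helper9.Co2O.ChkC13
import Cfsg.Agent.Helper9.Co2O.ChkC14
import Cfsg.Agent.Helper9.Co2O.ChkC15
import Cfsg.Agent.Helper9.Co2O.ChkC16
import Cfsg.Agent.Helper9.Co2O.ChkC17
import Cfsg.Agent.Helper9.Co2O.ChkC18
import Cfsg.Agent.Helper9.Co2O.ChkC19
import Cfsg.Agent.Helper9.Co2O.ChkC20
import Cfsg.Agent.Helper9.Co2O.ChkC21
import Cfsg.Agent.Helper9.Co2O.ChkC22
import Cfsg.Agent.Helper9.Co2O.ChkT0
import Cfsg.Agent.Helper9.Co2O.ChkT1
import Cfsg.Agent.Helper9.Co2O.ChkT2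
import Cfsg.Agent.Helper9.Co2O.ChkT3
import Cfsg.Agent.Helper9.Co2O.ChkT4
import Cfsg.Agent.Helper9.Co2O.ChkT5
import Cfsg.Agent.Helper9.Co2O.ChkT6
import Cfsg.Agent.Helper9.Co2O.ChkT7
set_option autoImplicit false
set_option Elab.async false

/-! Kernel checks of the certificates. -/

noncomputable section

namespace Cfsg.Agent.Helper9.Co2O

open Cfsg.Agent.Helper9.OutG Cfsg.Agent.Helper9.J3

theorem tab_b : allB (tabChk dD) dD.K = true := by
  have key : ∀ i, i < 100 → allC (tabChk dD) i 1 = true := by
    intro i hi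
    interval_cases i
    · exact tab_b_0
    · exact tab_b_1
    · exact tab_b_2
    · exact tab_b_3
    · exact tab_b_4
    · exact tab_b_5
    · exact tab_b_6
    · exact tab_b_7
    · exact tab_b_8
    · exact tab_b_9
    · exact tab_b_10
    · exact tab_b_11
    · exact tab_b_12
    · exact tab_b_13
    · exact tab_b_14
    · exact tab_b_15
    · exact tab_b_16
    · exact tab_b_17
    · exact tab_b_18
    · exact tab_b_19
    · exact tab_b_20
    · exact tab_b_21
    · exact tab_b_22
    · exact tab_b_23
    · exact tab_b_24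
    · exact tab_b_25
    · exact tab_b_26
    · exact tab_b_27
    · exact tab_b_28
    · exact tab_b_29
    · exact tab_b_30
    · exact tab_b_31
    · exact tab_b_32
    · exact tab_b_33
    · exact tab_b_34
    · exact tab_b_35
    · exact tab_b_36
    · exact tab_b_37
    · exact tab_b_38
    · exact tab_b_39
    · exact tab_b_40
    · exact tab_b_41
    · exact tab_b_42
    · exact tab_b_43
    · exact tab_b_44
    · exact tab_b_45
    · exact tab_b_46
    · exact tab_b_47
    · exact tab_b_48
    · exact tab_b_49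
    · exact tab_b_50
    · exact tab_b_51
    · exact tab_b_52
    · exact tab_b_53
    · exact tab_b_54
    · exact tab_b_55
    · exact tab_b_56
    · exact tab_b_57
    · exact tab_b_58
    · exact tab_b_59
    · exact tab_b_60
    · exact tab_b_61
    · exact tab_b_62
    · exact tab_b_63
    · exact tab_b_64
    · exact tab_b_65
    · exact tab_b_66
    · exact tab_b_67
    · exact tab_b_68
    · exact tab_b_69
    · exact tab_b_70
    · exact tab_b_71
    · exact tab_b_72
    · exact tab_b_73
    · exact tab_b_74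
    · exact tab_b_75
    · exact tab_b_76
    · exact tab_b_77
    · exact tab_b_78
    · exact tab_b_79
    · exact tab_b_80
    · exact tab_b_81
    · exact tab_b_82
    · exact tab_b_83
    · exact tab_b_84
    · exact tab_b_85
    · exact tab_b_86
    · exact tab_b_87
    · exact tab_b_88
    · exact tab_b_89
    · exact tab_b_90
    · exact tab_b_91
    · exact tab_b_92
    · exact tab_b_93
    · exact tab_b_94
    · exact tab_b_95
    · exact tab_b_96
    · exact tab_b_97
    · exact tab_b_98
    · exact tab_b_99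
  apply allB_of_forall
  intro v hv
  have h2 : dD.K = 100 * 1 := by decide
  have hv' : v < 100 * 1 := by rw [← h2]; exact hv
  exact allC_true (p := tabChk dD) (K := 100) (c := 1) key hv'

theorem dw_b : allB (dwChk dD) dD.K = true := by
  have key : ∀ i, i < 100 → allC (dwChk dD) i 1 = true := by
    intro i hi
    interval_cases i
    · exact dw_b_0
    · exact dw_b_1
    · exact dw_b_2
    · exact dw_b_3
    · exact dw_b_4
    · exact dw_b_5
    · exact dw_b_6
    · exact dw_b_7
    · exact dw_b_8
    · exact dw_b_9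
    · exact dw_b_10
    · exact dw_b_11
    · exact dw_b_12
    · exact dw_b_13
    · exact dw_b_14
    · exact dw_b_15
    · exact dw_b_16
    · exact dw_b_17
    · exact dw_b_18
    · exact dw_b_19
    · exact dw_b_20
    · exact dw_b_21
    · exact dw_b_22
    · exact dw_b_23
    · exact dw_b_24
    · exact dw_b_25
    · exact dw_b_26
    · exact dw_b_27
    · exact dw_b_28
    · exact dw_b_29
    · exact dw_b_30
    · exact dw_b_31
    · exact dw_b_32
    · exact dw_b_33
    · exact dw_b_34
    · exact dw_b_35
    · exact dw_b_36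
    · exact dw_b_37
    · exact dw_b_38
    · exact dw_b_39
    · exact dw_b_40
    · exact dw_b_41
    · exact dw_b_42
    · exact dw_b_43
    · exact dw_b_44
    · exact dw_b_45
    · exact dw_b_46
    · exact dw_b_47
    · exact dw_b_48
    · exact dw_b_49
    · exact dw_b_50
    · exact dw_b_51
    · exact dw_b_52
    · exact dw_b_53
    · exact dw_b_54
    · exact dw_b_55
    · exact dw_b_56
    · exact dw_b_57
    · exact dw_b_58
    · exact dw_b_59
    · exact dw_b_60
    · exact dw_b_61
    · exact dw_b_62
    · exact dw_b_63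
    · exact dw_b_64
    · exact dw_b_65
    · exact dw_b_66
    · exact dw_b_67
    · exact dw_b_68
    · exact dw_b_69
    · exact dw_b_70
    · exact dw_b_71
    · exact dw_b_72
    · exact dw_b_73
    · exact dw_b_74
    · exact dw_b_75
    · exact dw_b_76
    · exact dw_b_77
    · exact dw_b_78
    · exact dw_b_79
    · exact dw_b_80
    · exact dw_b_81
    · exact dw_b_82
    · exact dw_b_83
    · exact dw_b_84
    · exact dw_b_85
    · exact dw_b_86
    · exact dw_b_87
    · exact dw_b_88
    · exact dw_b_89
    · exact dw_b_90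
    · exact dw_b_91
    · exact dw_b_92
    · exact dw_b_93
    · exact dw_b_94
    · exact dw_b_95
    · exact dw_b_96
    · exact dw_b_97
    · exact dw_b_98
    · exact dw_b_99
  apply allB_of_forall
  intro v hv
  have h2 : dD.K = 100 * 1 := by decide
  have hv' : v < 100 * 1 := by rw [← h2]; exact hv
  exact allC_true (p := dwChk dD) (K := 100) (c := 1) key hv'

set_option maxRecDepth 1000000 in
theorem chain_b : chainChk dD dC.bs [] dC.wss = true := by decide +kernel

set_option maxRecDepth 1000000 in
theorem plen_b : prodLen dC.wss = 42305421312000 := by decide +kernel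

/-- the verified core. -/
theorem core : Core dD dC 42305421312000 :=
  ⟨fun _ hk => allB_true tab_b hk, fun _ hk => allB_true dw_b hk, chain_b, plen_b⟩

set_option maxRecDepth 1000000 in
theorem gen_hab : allB (fun k => orB (ltB k dE.M) (abW dD dE k (dwOf dD k))) dD.K = true := by decide +kernel

theorem gen_hlw : allB (fun l => andB (abW dD dE dD.K (nthW dE.lw l)) (allB (fun x => Nat.beq (T dD l x) (evalT dD (nthW dE.lw l) x)) dD.n)) dD.L = true := by
  have key : ∀ i, i < 4 → allC (fun l => andB (abW dD dE dD.K (nthW dE.lw l)) (allB (fun x => Nat.beq (T dD l x) (evalT dD (nthW dE.lw l) x)) dD.n)) i 1 = true := by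
    intro i hi
    interval_cases i
    · exact gen_hlw_0
    · exact gen_hlw_1
    · exact gen_hlw_2
    · exact gen_hlw_3
  apply allB_of_forall
  intro v hv
  have h2 : dD.L = 4 * 1 := by decide
  have hv' : v < 4 * 1 := by rw [← h2]; exact hv
  exact allC_true (p := fun l => andB (abW dD dE dD.K (nthW dE.lw l)) (allB (fun x => Nat.beq (T dD l x) (evalT dD (nthW dE.lw l) x)) dD.n)) (K := 4) (c := 1) key hv'

theorem gen_hpw : allB (fun i => allB (fun x => Nat.beq (T dD dE.iA (pwT dD dE i x)) (pwT dD dE (Nat.mod (Nat.succ i) dE.p) x)) dD.n) dE.p = true := by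
  have key : ∀ i, i < 23 → allC (fun i => allB (fun x => Nat.beq (T dD dE.iA (pwT dD dE i x)) (pwT dD dE (Nat.mod (Nat.succ i) dE.p) x)) dD.n) i 1 = true := by
    intro i hi
    interval_cases i
    · exact gen_hpw_0
    · exact gen_hpw_1
    · exact gen_hpw_2
    · exact gen_hpw_3
    · exact gen_hpw_4
    · exact gen_hpw_5
    · exact gen_hpw_6
    · exact gen_hpw_7
    · exact gen_hpw_8
    · exact gen_hpw_9
    · exact gen_hpw_10
    · exact gen_hpw_11
    · exact gen_hpw_12
    · exact gen_hpw_13
    · exact gen_hpw_14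
    · exact gen_hpw_15
    · exact gen_hpw_16
    · exact gen_hpw_17
    · exact gen_hpw_18
    · exact gen_hpw_19
    · exact gen_hpw_20
    · exact gen_hpw_21
    · exact gen_hpw_22
  apply allB_of_forall
  intro v hv
  have h2 : dE.p = 23 * 1 := by decide
  have hv' : v < 23 * 1 := by rw [← h2]; exact hv
  exact allC_true (p := fun i => allB (fun x => Nat.beq (T dD dE.iA (pwT dD dE i x)) (pwT dD dE (Nat.mod (Nat.succ i) dE.p) x)) dD.n) (K := 23) (c := 1) key hv'

set_option maxRecDepth 1000000 in
theorem gen_hp0 : allB (fun x => Nat.beq (pwT dD dE 0 x) x) dD.n = true := by decide +kernel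

set_option maxRecDepth 1000000 in
theorem gen_hmv : andB (ltB dE.mv dD.n) (notB (Nat.beq (T dD dE.iA dE.mv) dE.mv)) = true := by decide +kernel

set_option maxRecDepth 1000000 in
theorem gen_hnm : allB (fun x => Nat.beq (T dD dE.iN (T dD dE.iA x)) (pwT dD dE (Nat.mod dE.r dE.p) (T dD dE.iN x))) dD.n = true := by decide +kernel

theorem genOK : GenOK dD dE :=
  { hLM := by decide, hab := gen_hab, hlw := gen_hlw, hpw := gen_hpw, hp0 := gen_hp0, hmv := gen_hmv, hnm := gen_hnm }

set_option maxRecDepth 1000000 in
theorem syl_hrel : allB (sylRelChk dD dC dS) dS.k = true := by decide +kernel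

set_option maxRecDepth 1000000 in
theorem syl_hch : chainChk dD dS.sC.bs [] dS.sC.wss = true := by decide +kernel

set_option maxRecDepth 1000000 in
theorem syl_hpl : prodLen dS.sC.wss = 2 ^ dS.k := by decide +kernel

set_option maxRecDepth 1000000 in
theorem syl_hlt : memWss dS.tI dS.sC.wss = true := by decide +kernel

set_option maxRecDepth 1000000 in
theorem syl_hcm : allB (fun j => agreeL dC.bs (fun x => tF dD dS 0 (tF dD dS j x)) (fun x => tF dD dS j (tF dD dS 0 x))) dS.k = true := by decide +kernel

set_option maxRecDepth 1000000 in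
theorem syl_hmv : notB (allB (fun x => Nat.beq (tF dD dS 0 x) x) dD.n) = true := by decide +kernel

theorem syl_hwit : ∀ e, e < 2 ^ dS.k → witChk dD dS e = true := by
  intro e he
  have h2 : (2 : ℕ) ^ dS.k = 128 * 2048 := by decide
  rw [h2] at he
  refine allC_true (K := 128) (c := 2048) ?_ he
  intro i hi
  interval_cases i
  · exact syl_wit_0
  · exact syl_wit_1
  · exact syl_wit_2
  · exact syl_wit_3
  · exact syl_wit_4
  · exact syl_wit_5
  · exact syl_wit_6
  · exact syl_wit_7
  · exact syl_wit_8
  · exact syl_wit_9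
  · exact syl_wit_10
  · exact syl_wit_11
  · exact syl_wit_12
  · exact syl_wit_13
  · exact syl_wit_14
  · exact syl_wit_15
  · exact syl_wit_16
  · exact syl_wit_17
  · exact syl_wit_18
  · exact syl_wit_19
  · exact syl_wit_20
  · exact syl_wit_21
  · exact syl_wit_22
  · exact syl_wit_23
  · exact syl_wit_24
  · exact syl_wit_25
  · exact syl_wit_26
  · exact syl_wit_27
  · exact syl_wit_28
  · exact syl_wit_29
  · exact syl_wit_30
  · exact syl_wit_31
  · exact syl_wit_32
  · exact syl_wit_33
  · exact syl_wit_34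
  · exact syl_wit_35
  · exact syl_wit_36
  · exact syl_wit_37
  · exact syl_wit_38
  · exact syl_wit_39
  · exact syl_wit_40
  · exact syl_wit_41
  · exact syl_wit_42
  · exact syl_wit_43
  · exact syl_wit_44
  · exact syl_wit_45
  · exact syl_wit_46
  · exact syl_wit_47
  · exact syl_wit_48
  · exact syl_wit_49
  · exact syl_wit_50
  · exact syl_wit_51
  · exact syl_wit_52
  · exact syl_wit_53
  · exact syl_wit_54
  · exact syl_wit_55
  · exact syl_wit_56
  · exact syl_wit_57
  · exact syl_wit_58
  · exact syl_wit_59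
  · exact syl_wit_60
  · exact syl_wit_61
  · exact syl_wit_62
  · exact syl_wit_63
  · exact syl_wit_64
  · exact syl_wit_65
  · exact syl_wit_66
  · exact syl_wit_67
  · exact syl_wit_68
  · exact syl_wit_69
  · exact syl_wit_70
  · exact syl_wit_71
  · exact syl_wit_72
  · exact syl_wit_73
  · exact syl_wit_74
  · exact syl_wit_75
  · exact syl_wit_76
  · exact syl_wit_77
  · exact syl_wit_78
  · exact syl_wit_79
  · exact syl_wit_80
  · exact syl_wit_81
  · exact syl_wit_82
  · exact syl_wit_83
  · exact syl_wit_84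
  · exact syl_wit_85
  · exact syl_wit_86
  · exact syl_wit_87
  · exact syl_wit_88
  · exact syl_wit_89
  · exact syl_wit_90
  · exact syl_wit_91
  · exact syl_wit_92
  · exact syl_wit_93
  · exact syl_wit_94
  · exact syl_wit_95
  · exact syl_wit_96
  · exact syl_wit_97
  · exact syl_wit_98
  · exact syl_wit_99
  · exact syl_wit_100
  · exact syl_wit_101
  · exact syl_wit_102
  · exact syl_wit_103
  · exact syl_wit_104
  · exact syl_wit_105
  · exact syl_wit_106
  · exact syl_wit_107
  · exact syl_wit_108
  · exact syl_wit_109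
  · exact syl_wit_110
  · exact syl_wit_111
  · exact syl_wit_112
  · exact syl_wit_113
  · exact syl_wit_114
  · exact syl_wit_115
  · exact syl_wit_116
  · exact syl_wit_117
  · exact syl_wit_118
  · exact syl_wit_119
  · exact syl_wit_120
  · exact syl_wit_121
  · exact syl_wit_122
  · exact syl_wit_123
  · exact syl_wit_124
  · exact syl_wit_125
  · exact syl_wit_126
  · exact syl_wit_127

theorem sylOK : SylOK dD dC 42305421312000 dS :=
  { hrel := syl_hrel, hodd := by decide, hch := syl_hch, hpl := syl_hpl, hlt := syl_hlt, hcm := syl_hcm,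
    hmv := syl_hmv, hk := by decide, hwit := syl_hwit }

theorem cls_hclo : ∀ v, v < dCl.R * dE.p → cloChk dD dC dE dCl v = true := by
  intro v hv
  have h2 : dCl.R * dE.p = 56925 := by decide
  rw [h2] at hv
  have hv' : v < 575 * 99 := by omega
  refine allC_true (K := 575) (c := 99) ?_ hv'
  intro i hi
  interval_cases i
  · exact cls_hclo_0
  · exact cls_hclo_1
  · exact cls_hclo_2
  · exact cls_hclo_3
  · exact cls_hclo_4
  · exact cls_hclo_5
  · exact cls_hclo_6
  · exact cls_hclo_7
  · exact cls_hclo_8
  · exact cls_hclo_9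
  · exact cls_hclo_10
  · exact cls_hclo_11
  · exact cls_hclo_12
  · exact cls_hclo_13
  · exact cls_hclo_14
  · exact cls_hclo_15
  · exact cls_hclo_16
  · exact cls_hclo_17
  · exact cls_hclo_18
  · exact cls_hclo_19
  · exact cls_hclo_20
  · exact cls_hclo_21
  · exact cls_hclo_22
  · exact cls_hclo_23
  · exact cls_hclo_24
  · exact cls_hclo_25
  · exact cls_hclo_26
  · exact cls_hclo_27
  · exact cls_hclo_28
  · exact cls_hclo_29
  · exact cls_hclo_30
  · exact cls_hclo_31
  · exact cls_hclo_32
  · exact cls_hclo_33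
  · exact cls_hclo_34
  · exact cls_hclo_35
  · exact cls_hclo_36
  · exact cls_hclo_37
  · exact cls_hclo_38
  · exact cls_hclo_39
  · exact cls_hclo_40
  · exact cls_hclo_41
  · exact cls_hclo_42
  · exact cls_hclo_43
  · exact cls_hclo_44
  · exact cls_hclo_45
  · exact cls_hclo_46
  · exact cls_hclo_47
  · exact cls_hclo_48
  · exact cls_hclo_49
  · exact cls_hclo_50
  · exact cls_hclo_51
  · exact cls_hclo_52
  · exact cls_hclo_53
  · exact cls_hclo_54
  · exact cls_hclo_55
  · exact cls_hclo_56
  · exact cls_hclo_57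
  · exact cls_hclo_58
  · exact cls_hclo_59
  · exact cls_hclo_60
  · exact cls_hclo_61
  · exact cls_hclo_62
  · exact cls_hclo_63
  · exact cls_hclo_64
  · exact cls_hclo_65
  · exact cls_hclo_66
  · exact cls_hclo_67
  · exact cls_hclo_68
  · exact cls_hclo_69
  · exact cls_hclo_70
  · exact cls_hclo_71
  · exact cls_hclo_72
  · exact cls_hclo_73
  · exact cls_hclo_74
  · exact cls_hclo_75
  · exact cls_hclo_76
  · exact cls_hclo_77
  · exact cls_hclo_78
  · exact cls_hclo_79
  · exact cls_hclo_80
  · exact cls_hclo_81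
  · exact cls_hclo_82
  · exact cls_hclo_83
  · exact cls_hclo_84
  · exact cls_hclo_85
  · exact cls_hclo_86
  · exact cls_hclo_87
  · exact cls_hclo_88
  · exact cls_hclo_89
  · exact cls_hclo_90
  · exact cls_hclo_91
  · exact cls_hclo_92
  · exact cls_hclo_93
  · exact cls_hclo_94
  · exact cls_hclo_95
  · exact cls_hclo_96
  · exact cls_hclo_97
  · exact cls_hclo_98
  · exact cls_hclo_99
  · exact cls_hclo_100
  · exact cls_hclo_101
  · exact cls_hclo_102
  · exact cls_hclo_103
  · exact cls_hclo_104
  · exact cls_hclo_105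
  · exact cls_hclo_106
  · exact cls_hclo_107
  · exact cls_hclo_108
  · exact cls_hclo_109
  · exact cls_hclo_110
  · exact cls_hclo_111
  · exact cls_hclo_112
  · exact cls_hclo_113
  · exact cls_hclo_114
  · exact cls_hclo_115
  · exact cls_hclo_116
  · exact cls_hclo_117
  · exact cls_hclo_118
  · exact cls_hclo_119
  · exact cls_hclo_120
  · exact cls_hclo_121
  · exact cls_hclo_122
  · exact cls_hclo_123
  · exact cls_hclo_124
  · exact cls_hclo_125
  · exact cls_hclo_126
  · exact cls_hclo_127
  · exact cls_hclo_128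
  · exact cls_hclo_129
  · exact cls_hclo_130
  · exact cls_hclo_131
  · exact cls_hclo_132
  · exact cls_hclo_133
  · exact cls_hclo_134
  · exact cls_hclo_135
  · exact cls_hclo_136
  · exact cls_hclo_137
  · exact cls_hclo_138
  · exact cls_hclo_139
  · exact cls_hclo_140
  · exact cls_hclo_141
  · exact cls_hclo_142
  · exact cls_hclo_143
  · exact cls_hclo_144
  · exact cls_hclo_145
  · exact cls_hclo_146
  · exact cls_hclo_147
  · exact cls_hclo_148
  · exact cls_hclo_149
  · exact cls_hclo_150
  · exact cls_hclo_151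
  · exact cls_hclo_152
  · exact cls_hclo_153
  · exact cls_hclo_154
  · exact cls_hclo_155
  · exact cls_hclo_156
  · exact cls_hclo_157
  · exact cls_hclo_158
  · exact cls_hclo_159
  · exact cls_hclo_160
  · exact cls_hclo_161
  · exact cls_hclo_162
  · exact cls_hclo_163
  · exact cls_hclo_164
  · exact cls_hclo_165
  · exact cls_hclo_166
  · exact cls_hclo_167
  · exact cls_hclo_168
  · exact cls_hclo_169
  · exact cls_hclo_170
  · exact cls_hclo_171
  · exact cls_hclo_172
  · exact cls_hclo_173
  · exact cls_hclo_174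
  · exact cls_hclo_175
  · exact cls_hclo_176
  · exact cls_hclo_177
  · exact cls_hclo_178
  · exact cls_hclo_179
  · exact cls_hclo_180
  · exact cls_hclo_181
  · exact cls_hclo_182
  · exact cls_hclo_183
  · exact cls_hclo_184
  · exact cls_hclo_185
  · exact cls_hclo_186
  · exact cls_hclo_187
  · exact cls_hclo_188
  · exact cls_hclo_189
  · exact cls_hclo_190
  · exact cls_hclo_191
  · exact cls_hclo_192
  · exact cls_hclo_193
  · exact cls_hclo_194
  · exact cls_hclo_195
  · exact cls_hclo_196
  · exact cls_hclo_197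
  · exact cls_hclo_198
  · exact cls_hclo_199
  · exact cls_hclo_200
  · exact cls_hclo_201
  · exact cls_hclo_202
  · exact cls_hclo_203
  · exact cls_hclo_204
  · exact cls_hclo_205
  · exact cls_hclo_206
  · exact cls_hclo_207
  · exact cls_hclo_208
  · exact cls_hclo_209
  · exact cls_hclo_210
  · exact cls_hclo_211
  · exact cls_hclo_212
  · exact cls_hclo_213
  · exact cls_hclo_214
  · exact cls_hclo_215
  · exact cls_hclo_216
  · exact cls_hclo_217
  · exact cls_hclo_218
  · exact cls_hclo_219
  · exact cls_hclo_220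
  · exact cls_hclo_221
  · exact cls_hclo_222
  · exact cls_hclo_223
  · exact cls_hclo_224
  · exact cls_hclo_225
  · exact cls_hclo_226
  · exact cls_hclo_227
  · exact cls_hclo_228
  · exact cls_hclo_229
  · exact cls_hclo_230
  · exact cls_hclo_231
  · exact cls_hclo_232
  · exact cls_hclo_233
  · exact cls_hclo_234
  · exact cls_hclo_235
  · exact cls_hclo_236
  · exact cls_hclo_237
  · exact cls_hclo_238
  · exact cls_hclo_239
  · exact cls_hclo_240
  · exact cls_hclo_241
  · exact cls_hclo_242
  · exact cls_hclo_243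
  · exact cls_hclo_244
  · exact cls_hclo_245
  · exact cls_hclo_246
  · exact cls_hclo_247
  · exact cls_hclo_248
  · exact cls_hclo_249
  · exact cls_hclo_250
  · exact cls_hclo_251
  · exact cls_hclo_252
  · exact cls_hclo_253
  · exact cls_hclo_254
  · exact cls_hclo_255
  · exact cls_hclo_256
  · exact cls_hclo_257
  · exact cls_hclo_258
  · exact cls_hclo_259
  · exact cls_hclo_260
  · exact cls_hclo_261
  · exact cls_hclo_262
  · exact cls_hclo_263
  · exact cls_hclo_264
  · exact cls_hclo_265
  · exact cls_hclo_266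
  · exact cls_hclo_267
  · exact cls_hclo_268
  · exact cls_hclo_269
  · exact cls_hclo_270
  · exact cls_hclo_271
  · exact cls_hclo_272
  · exact cls_hclo_273
  · exact cls_hclo_274
  · exact cls_hclo_275
  · exact cls_hclo_276
  · exact cls_hclo_277
  · exact cls_hclo_278
  · exact cls_hclo_279
  · exact cls_hclo_280
  · exact cls_hclo_281
  · exact cls_hclo_282
  · exact cls_hclo_283
  · exact cls_hclo_284
  · exact cls_hclo_285
  · exact cls_hclo_286
  · exact cls_hclo_287
  · exact cls_hclo_288
  · exact cls_hclo_289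
  · exact cls_hclo_290
  · exact cls_hclo_291
  · exact cls_hclo_292
  · exact cls_hclo_293
  · exact cls_hclo_294
  · exact cls_hclo_295
  · exact cls_hclo_296
  · exact cls_hclo_297
  · exact cls_hclo_298
  · exact cls_hclo_299
  · exact cls_hclo_300
  · exact cls_hclo_301
  · exact cls_hclo_302
  · exact cls_hclo_303
  · exact cls_hclo_304
  · exact cls_hclo_305
  · exact cls_hclo_306
  · exact cls_hclo_307
  · exact cls_hclo_308
  · exact cls_hclo_309
  · exact cls_hclo_310
  · exact cls_hclo_311
  · exact cls_hclo_312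
  · exact cls_hclo_313
  · exact cls_hclo_314
  · exact cls_hclo_315
  · exact cls_hclo_316
  · exact cls_hclo_317
  · exact cls_hclo_318
  · exact cls_hclo_319
  · exact cls_hclo_320
  · exact cls_hclo_321
  · exact cls_hclo_322
  · exact cls_hclo_323
  · exact cls_hclo_324
  · exact cls_hclo_325
  · exact cls_hclo_326
  · exact cls_hclo_327
  · exact cls_hclo_328
  · exact cls_hclo_329
  · exact cls_hclo_330
  · exact cls_hclo_331
  · exact cls_hclo_332
  · exact cls_hclo_333
  · exact cls_hclo_334
  · exact cls_hclo_335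
  · exact cls_hclo_336
  · exact cls_hclo_337
  · exact cls_hclo_338
  · exact cls_hclo_339
  · exact cls_hclo_340
  · exact cls_hclo_341
  · exact cls_hclo_342
  · exact cls_hclo_343
  · exact cls_hclo_344
  · exact cls_hclo_345
  · exact cls_hclo_346
  · exact cls_hclo_347
  · exact cls_hclo_348
  · exact cls_hclo_349
  · exact cls_hclo_350
  · exact cls_hclo_351
  · exact cls_hclo_352
  · exact cls_hclo_353
  · exact cls_hclo_354
  · exact cls_hclo_355
  · exact cls_hclo_356
  · exact cls_hclo_357
  · exact cls_hclo_358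
  · exact cls_hclo_359
  · exact cls_hclo_360
  · exact cls_hclo_361
  · exact cls_hclo_362
  · exact cls_hclo_363
  · exact cls_hclo_364
  · exact cls_hclo_365
  · exact cls_hclo_366
  · exact cls_hclo_367
  · exact cls_hclo_368
  · exact cls_hclo_369
  · exact cls_hclo_370
  · exact cls_hclo_371
  · exact cls_hclo_372
  · exact cls_hclo_373
  · exact cls_hclo_374
  · exact cls_hclo_375
  · exact cls_hclo_376
  · exact cls_hclo_377
  · exact cls_hclo_378
  · exact cls_hclo_379
  · exact cls_hclo_380
  · exact cls_hclo_381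
  · exact cls_hclo_382
  · exact cls_hclo_383
  · exact cls_hclo_384
  · exact cls_hclo_385
  · exact cls_hclo_386
  · exact cls_hclo_387
  · exact cls_hclo_388
  · exact cls_hclo_389
  · exact cls_hclo_390
  · exact cls_hclo_391
  · exact cls_hclo_392
  · exact cls_hclo_393
  · exact cls_hclo_394
  · exact cls_hclo_395
  · exact cls_hclo_396
  · exact cls_hclo_397
  · exact cls_hclo_398
  · exact cls_hclo_399
  · exact cls_hclo_400
  · exact cls_hclo_401
  · exact cls_hclo_402
  · exact cls_hclo_403
  · exact cls_hclo_404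
  · exact cls_hclo_405
  · exact cls_hclo_406
  · exact cls_hclo_407
  · exact cls_hclo_408
  · exact cls_hclo_409
  · exact cls_hclo_410
  · exact cls_hclo_411
  · exact cls_hclo_412
  · exact cls_hclo_413
  · exact cls_hclo_414
  · exact cls_hclo_415
  · exact cls_hclo_416
  · exact cls_hclo_417
  · exact cls_hclo_418
  · exact cls_hclo_419
  · exact cls_hclo_420
  · exact cls_hclo_421
  · exact cls_hclo_422
  · exact cls_hclo_423
  · exact cls_hclo_424
  · exact cls_hclo_425
  · exact cls_hclo_426
  · exact cls_hclo_427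
  · exact cls_hclo_428
  · exact cls_hclo_429
  · exact cls_hclo_430
  · exact cls_hclo_431
  · exact cls_hclo_432
  · exact cls_hclo_433
  · exact cls_hclo_434
  · exact cls_hclo_435
  · exact cls_hclo_436
  · exact cls_hclo_437
  · exact cls_hclo_438
  · exact cls_hclo_439
  · exact cls_hclo_440
  · exact cls_hclo_441
  · exact cls_hclo_442
  · exact cls_hclo_443
  · exact cls_hclo_444
  · exact cls_hclo_445
  · exact cls_hclo_446
  · exact cls_hclo_447
  · exact cls_hclo_448
  · exact cls_hclo_449
  · exact cls_hclo_450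
  · exact cls_hclo_451
  · exact cls_hclo_452
  · exact cls_hclo_453
  · exact cls_hclo_454
  · exact cls_hclo_455
  · exact cls_hclo_456
  · exact cls_hclo_457
  · exact cls_hclo_458
  · exact cls_hclo_459
  · exact cls_hclo_460
  · exact cls_hclo_461
  · exact cls_hclo_462
  · exact cls_hclo_463
  · exact cls_hclo_464
  · exact cls_hclo_465
  · exact cls_hclo_466
  · exact cls_hclo_467
  · exact cls_hclo_468
  · exact cls_hclo_469
  · exact cls_hclo_470
  · exact cls_hclo_471
  · exact cls_hclo_472
  · exact cls_hclo_473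
  · exact cls_hclo_474
  · exact cls_hclo_475
  · exact cls_hclo_476
  · exact cls_hclo_477
  · exact cls_hclo_478
  · exact cls_hclo_479
  · exact cls_hclo_480
  · exact cls_hclo_481
  · exact cls_hclo_482
  · exact cls_hclo_483
  · exact cls_hclo_484
  · exact cls_hclo_485
  · exact cls_hclo_486
  · exact cls_hclo_487
  · exact cls_hclo_488
  · exact cls_hclo_489
  · exact cls_hclo_490
  · exact cls_hclo_491
  · exact cls_hclo_492
  · exact cls_hclo_493
  · exact cls_hclo_494
  · exact cls_hclo_495
  · exact cls_hclo_496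
  · exact cls_hclo_497
  · exact cls_hclo_498
  · exact cls_hclo_499
  · exact cls_hclo_500
  · exact cls_hclo_501
  · exact cls_hclo_502
  · exact cls_hclo_503
  · exact cls_hclo_504
  · exact cls_hclo_505
  · exact cls_hclo_506
  · exact cls_hclo_507
  · exact cls_hclo_508
  · exact cls_hclo_509
  · exact cls_hclo_510
  · exact cls_hclo_511
  · exact cls_hclo_512
  · exact cls_hclo_513
  · exact cls_hclo_514
  · exact cls_hclo_515
  · exact cls_hclo_516
  · exact cls_hclo_517
  · exact cls_hclo_518
  · exact cls_hclo_519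
  · exact cls_hclo_520
  · exact cls_hclo_521
  · exact cls_hclo_522
  · exact cls_hclo_523
  · exact cls_hclo_524
  · exact cls_hclo_525
  · exact cls_hclo_526
  · exact cls_hclo_527
  · exact cls_hclo_528
  · exact cls_hclo_529
  · exact cls_hclo_530
  · exact cls_hclo_531
  · exact cls_hclo_532
  · exact cls_hclo_533
  · exact cls_hclo_534
  · exact cls_hclo_535
  · exact cls_hclo_536
  · exact cls_hclo_537
  · exact cls_hclo_538
  · exact cls_hclo_539
  · exact cls_hclo_540
  · exact cls_hclo_541
  · exact cls_hclo_542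
  · exact cls_hclo_543
  · exact cls_hclo_544
  · exact cls_hclo_545
  · exact cls_hclo_546
  · exact cls_hclo_547
  · exact cls_hclo_548
  · exact cls_hclo_549
  · exact cls_hclo_550
  · exact cls_hclo_551
  · exact cls_hclo_552
  · exact cls_hclo_553
  · exact cls_hclo_554
  · exact cls_hclo_555
  · exact cls_hclo_556
  · exact cls_hclo_557
  · exact cls_hclo_558
  · exact cls_hclo_559
  · exact cls_hclo_560
  · exact cls_hclo_561
  · exact cls_hclo_562
  · exact cls_hclo_563
  · exact cls_hclo_564
  · exact cls_hclo_565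
  · exact cls_hclo_566
  · exact cls_hclo_567
  · exact cls_hclo_568
  · exact cls_hclo_569
  · exact cls_hclo_570
  · exact cls_hclo_571
  · exact cls_hclo_572
  · exact cls_hclo_573
  · exact cls_hclo_574

set_option maxRecDepth 1000000 in
theorem cls_hb : andB (ltB dCl.bI dE.p) (andB (ltB dCl.bJ dCl.R) (agreeL dC.bs (T dD dE.iB) (crF dD dE dCl dCl.bI dCl.bJ))) = true := by decide +kernel

set_option maxRecDepth 1000000 in
theorem cls_hb2 : allB (fun x => Nat.beq (T dD dE.iB (T dD dE.iB x)) x) dD.n = true := by decide +kernel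

theorem clsOK : ClsOK dD dC dE dCl := { hclo := cls_hclo, hb := cls_hb, hb2 := cls_hb2 }

set_option maxRecDepth 1000000 in
theorem tst_hrels : relsOK dD dE dTs.rels = true := by decide +kernel

theorem tst_htst : ∀ v, v < dTs.K0.length * dCl.R → testChk dD dC dE dCl dTs v = true := by
  intro v hv
  have h2 : dTs.K0.length * dCl.R = 4950 := by decide
  rw [h2] at hv
  have hv' : v < 198 * 25 := by omega
  refine allC_true (K := 198) (c := 25) ?_ hv'
  intro i hi
  interval_cases i
  · exact tst_htst_0
  · exact tst_htst_1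
  · exact tst_htst_2
  · exact tst_htst_3
  · exact tst_htst_4
  · exact tst_htst_5
  · exact tst_htst_6
  · exact tst_htst_7
  · exact tst_htst_8
  · exact tst_htst_9
  · exact tst_htst_10
  · exact tst_htst_11
  · exact tst_htst_12
  · exact tst_htst_13
  · exact tst_htst_14
  · exact tst_htst_15
  · exact tst_htst_16
  · exact tst_htst_17
  · exact tst_htst_18
  · exact tst_htst_19
  · exact tst_htst_20
  · exact tst_htst_21
  · exact tst_htst_22
  · exact tst_htst_23
  · exact tst_htst_24
  · exact tst_htst_25
  · exact tst_htst_26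
  · exact tst_htst_27
  · exact tst_htst_28
  · exact tst_htst_29
  · exact tst_htst_30
  · exact tst_htst_31
  · exact tst_htst_32
  · exact tst_htst_33
  · exact tst_htst_34
  · exact tst_htst_35
  · exact tst_htst_36
  · exact tst_htst_37
  · exact tst_htst_38
  · exact tst_htst_39
  · exact tst_htst_40
  · exact tst_htst_41
  · exact tst_htst_42
  · exact tst_htst_43
  · exact tst_htst_44
  · exact tst_htst_45
  · exact tst_htst_46
  · exact tst_htst_47
  · exact tst_htst_48
  · exact tst_htst_49
  · exact tst_htst_50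
  · exact tst_htst_51
  · exact tst_htst_52
  · exact tst_htst_53
  · exact tst_htst_54
  · exact tst_htst_55
  · exact tst_htst_56
  · exact tst_htst_57
  · exact tst_htst_58
  · exact tst_htst_59
  · exact tst_htst_60
  · exact tst_htst_61
  · exact tst_htst_62
  · exact tst_htst_63
  · exact tst_htst_64
  · exact tst_htst_65
  · exact tst_htst_66
  · exact tst_htst_67
  · exact tst_htst_68
  · exact tst_htst_69
  · exact tst_htst_70
  · exact tst_htst_71
  · exact tst_htst_72
  · exact tst_htst_73
  · exact tst_htst_74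
  · exact tst_htst_75
  · exact tst_htst_76
  · exact tst_htst_77
  · exact tst_htst_78
  · exact tst_htst_79
  · exact tst_htst_80
  · exact tst_htst_81
  · exact tst_htst_82
  · exact tst_htst_83
  · exact tst_htst_84
  · exact tst_htst_85
  · exact tst_htst_86
  · exact tst_htst_87
  · exact tst_htst_88
  · exact tst_htst_89
  · exact tst_htst_90
  · exact tst_htst_91
  · exact tst_htst_92
  · exact tst_htst_93
  · exact tst_htst_94
  · exact tst_htst_95
  · exact tst_htst_96
  · exact tst_htst_97
  · exact tst_htst_98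
  · exact tst_htst_99
  · exact tst_htst_100
  · exact tst_htst_101
  · exact tst_htst_102
  · exact tst_htst_103
  · exact tst_htst_104
  · exact tst_htst_105
  · exact tst_htst_106
  · exact tst_htst_107
  · exact tst_htst_108
  · exact tst_htst_109
  · exact tst_htst_110
  · exact tst_htst_111
  · exact tst_htst_112
  · exact tst_htst_113
  · exact tst_htst_114
  · exact tst_htst_115
  · exact tst_htst_116
  · exact tst_htst_117
  · exact tst_htst_118
  · exact tst_htst_119
  · exact tst_htst_120
  · exact tst_htst_121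
  · exact tst_htst_122
  · exact tst_htst_123
  · exact tst_htst_124
  · exact tst_htst_125
  · exact tst_htst_126
  · exact tst_htst_127
  · exact tst_htst_128
  · exact tst_htst_129
  · exact tst_htst_130
  · exact tst_htst_131
  · exact tst_htst_132
  · exact tst_htst_133
  · exact tst_htst_134
  · exact tst_htst_135
  · exact tst_htst_136
  · exact tst_htst_137
  · exact tst_htst_138
  · exact tst_htst_139
  · exact tst_htst_140
  · exact tst_htst_141
  · exact tst_htst_142
  · exact tst_htst_143
  · exact tst_htst_144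
  · exact tst_htst_145
  · exact tst_htst_146
  · exact tst_htst_147
  · exact tst_htst_148
  · exact tst_htst_149
  · exact tst_htst_150
  · exact tst_htst_151
  · exact tst_htst_152
  · exact tst_htst_153
  · exact tst_htst_154
  · exact tst_htst_155
  · exact tst_htst_156
  · exact tst_htst_157
  · exact tst_htst_158
  · exact tst_htst_159
  · exact tst_htst_160
  · exact tst_htst_161
  · exact tst_htst_162
  · exact tst_htst_163
  · exact tst_htst_164
  · exact tst_htst_165
  · exact tst_htst_166
  · exact tst_htst_167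
  · exact tst_htst_168
  · exact tst_htst_169
  · exact tst_htst_170
  · exact tst_htst_171
  · exact tst_htst_172
  · exact tst_htst_173
  · exact tst_htst_174
  · exact tst_htst_175
  · exact tst_htst_176
  · exact tst_htst_177
  · exact tst_htst_178
  · exact tst_htst_179
  · exact tst_htst_180
  · exact tst_htst_181
  · exact tst_htst_182
  · exact tst_htst_183
  · exact tst_htst_184
  · exact tst_htst_185
  · exact tst_htst_186
  · exact tst_htst_187
  · exact tst_htst_188
  · exact tst_htst_189
  · exact tst_htst_190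
  · exact tst_htst_191
  · exact tst_htst_192
  · exact tst_htst_193
  · exact tst_htst_194
  · exact tst_htst_195
  · exact tst_htst_196
  · exact tst_htst_197

theorem tstOK : TstOK dD dC dE dCl dTs := { hrels := tst_hrels, htst := tst_htst }

theorem hK0aux : ∀ k < 23, 0 < k → ∃ j < 23, ∃ k0 ∈ [1, 5], (k * 2 ^ j) % 23 = k0 % 23 := by
  decide

theorem hK0 : ∀ k, 0 < k → k < dE.p → ∃ j : ℕ, ∃ k0 ∈ dTs.K0, (k * dE.r ^ j) % dE.p = k0 % dE.p := by
  intro k h0 hp
  obtain ⟨j, -, k0, hk0, hj⟩ := hK0aux k hp h0
  exact ⟨j, k0, hk0, hj⟩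

instance factP : Fact (Nat.Prime dE.p) := ⟨by norm_num [dE]⟩

theorem hp2 : ¬ dE.p ^ 2 ∣ 42305421312000 := by decide

end Cfsg.Agent.Helper9.Co2O

end
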