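import Mathlib
import Cfsg.Agent.Helper9.Co2O.Chk
import Cfsg.Agent.Helper9.Co2O.BrChk
import Cfsg.Agent.Helper9.LeechAct.Stab
import Cfsg.Agent.Helper9.Leech.Co2Simple
import Cfsg.Agent.Helper9.HeO.Abs

set_option autoImplicit false

/-! The outer automorphism group of the stabilizer of the vector has one element. -/

noncomputable section

namespace Cfsg.Agent.Helper9.Co2O

open Cfsg Cfsg.Agent.Helper9.Golay Cfsg.Agent.Helper9.Leech Cfsg.Agent.Helper9.OutG
open Cfsg.Agent.Helper9.LeechAct

theorem mem_Co2_iff (g : Equiv.Perm ↥leechLattice) :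
    g ∈ Spor.Co2 ↔ g ∈ Co0 ∧ g Spor.leechU = Spor.leechU := by
  unfold Spor.Co2
  rw [Subgroup.mem_inf, MulAction.mem_stabilizer_iff]
  rfl

theorem coeU : ((Spor.leechU : ↥leechLattice) : GolayPt → ℤ) = toVec (dFix.getD 0 []) := by
  funext p
  revert p
  decide

theorem normU : sqNorm ((Spor.leechU : ↥leechLattice) : GolayPt → ℤ) = 32 := by decide

theorem co2_fin : Finite ↥Spor.Co2 ∧ Nat.card ↥Spor.Co2 ≤ 42305421312000 :=
  finite_card_le (by norm_num) (co2_simple_card Spor.leechU normU).2
    (single_mem Spor.leechU (fun g hg => (mem_Co2_iff g).1 hg))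

/-- the vector of the first point. -/
def rootV : GolayPt → ℤ := fun p => if p = none ∨ p = some 1 then 4 else 0

theorem rootV_mem : rootV ∈ leechSet :=
  Spor.mem_leechSet_of_const_mod_four rootV 0 0 (by decide) (by decide) (by decide)

/-- the first point. -/
def rootL : ↥leechLattice := ⟨rootV, AddSubgroup.subset_closure rootV_mem⟩

theorem out_Co2 : Nat.card (Cfsg.Out ↥Spor.Co2) = 1 := by
  have := co2_fin.1
  have hx0 : ((rootL : ↥leechLattice) : GolayPt → ℤ) = toVec (dBr.pt dBr.rt) := by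
    have e : dBr.pt dBr.rt = [0, 4, 0, 0, 0, 0, 0, 0, 0, 0, 0, 0, 0, 0, 0, 0, 0, 0, 0, 0, 0,
      0, 0, 4] := by decide +kernel
    rw [e]
    funext p
    revert p
    decide
  obtain ⟨⟨e⟩, hN⟩ := bridgeL core brOK Spor.Co2 co2_fin.2
    [(Spor.leechU, dFix.getD 0 [])]
    (by
      intro f hf
      simp only [List.mem_cons, List.not_mem_nil, or_false] at hf
      rcases hf with rfl
      exact coeU)
    (by decide)
    (by
      intro g hg hfx
      rw [mem_Co2_iff]
      exact ⟨hg, hfx (Spor.leechU, dFix.getD 0 []) List.mem_cons_self⟩)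
    rootL hx0
  rw [Cfsg.Agent.Helper9.HeO.card_out_congr e]
  exact out_one core hN genOK sylOK (by decide) clsOK (by decide) tstOK hp2 hK0 (by decide)
    (by decide)

end Cfsg.Agent.Helper9.Co2O

end
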