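import Mathlib
import Cfsg.Agent.Helper9.Co2O.Data

set_option autoImplicit false
set_option Elab.async false

/-! Kernel checks of the certificates, a part. -/

noncomputable section

namespace Cfsg.Agent.Helper9.Co2O

open Cfsg.Agent.Helper9.OutG Cfsg.Agent.Helper9.J3

set_option maxRecDepth 1000000 in
theorem cls_hclo_275 : allC (cloChk dD dC dE dCl) 275 99 = true := by decide +kernel

set_option maxRecDepth 1000000 in
theorem cls_hclo_276 : allC (cloChk dD dC dE dCl) 276 99 = true := by decide +kernel

set_option maxRecDepth 1000000 in
theorem cls_hclo_277 : allC (cloChk dD dC dE dCl) 277 99 = true := by decide +kernel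

set_option maxRecDepth 1000000 in
theorem cls_hclo_278 : allC (cloChk dD dC dE dCl) 278 99 = true := by decide +kernel

set_option maxRecDepth 1000000 in
theorem cls_hclo_279 : allC (cloChk dD dC dE dCl) 279 99 = true := by decide +kernel

set_option maxRecDepth 1000000 in
theorem cls_hclo_280 : allC (cloChk dD dC dE dCl) 280 99 = true := by decide +kernel

set_option maxRecDepth 1000000 in
theorem cls_hclo_281 : allC (cloChk dD dC dE dCl) 281 99 = true := by decide +kernel

set_option maxRecDepth 1000000 in
theorem cls_hclo_282 : allC (cloChk dD dC dE dCl) 282 99 = true := by decide +kernel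

set_option maxRecDepth 1000000 in
theorem cls_hclo_283 : allC (cloChk dD dC dE dCl) 283 99 = true := by decide +kernel

set_option maxRecDepth 1000000 in
theorem cls_hclo_284 : allC (cloChk dD dC dE dCl) 284 99 = true := by decide +kernel

set_option maxRecDepth 1000000 in
theorem cls_hclo_285 : allC (cloChk dD dC dE dCl) 285 99 = true := by decide +kernel

set_option maxRecDepth 1000000 in
theorem cls_hclo_286 : allC (cloChk dD dC dE dCl) 286 99 = true := by decide +kernel

set_option maxRecDepth 1000000 in
theorem cls_hclo_287 : allC (cloChk dD dC dE dCl) 287 99 = true := by decide +kernel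

set_option maxRecDepth 1000000 in
theorem cls_hclo_288 : allC (cloChk dD dC dE dCl) 288 99 = true := by decide +kernel

set_option maxRecDepth 1000000 in
theorem cls_hclo_289 : allC (cloChk dD dC dE dCl) 289 99 = true := by decide +kernel

set_option maxRecDepth 1000000 in
theorem cls_hclo_290 : allC (cloChk dD dC dE dCl) 290 99 = true := by decide +kernel

set_option maxRecDepth 1000000 in
theorem cls_hclo_291 : allC (cloChk dD dC dE dCl) 291 99 = true := by decide +kernel

set_option maxRecDepth 1000000 in
theorem cls_hclo_292 : allC (cloChk dD dC dE dCl) 292 99 = true := by decide +kernel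

set_option maxRecDepth 1000000 in
theorem cls_hclo_293 : allC (cloChk dD dC dE dCl) 293 99 = true := by decide +kernel

set_option maxRecDepth 1000000 in
theorem cls_hclo_294 : allC (cloChk dD dC dE dCl) 294 99 = true := by decide +kernel

set_option maxRecDepth 1000000 in
theorem cls_hclo_295 : allC (cloChk dD dC dE dCl) 295 99 = true := by decide +kernel

set_option maxRecDepth 1000000 in
theorem cls_hclo_296 : allC (cloChk dD dC dE dCl) 296 99 = true := by decide +kernel

set_option maxRecDepth 1000000 in
theorem cls_hclo_297 : allC (cloChk dD dC dE dCl) 297 99 = true := by decide +kernel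

set_option maxRecDepth 1000000 in
theorem cls_hclo_298 : allC (cloChk dD dC dE dCl) 298 99 = true := by decide +kernel

set_option maxRecDepth 1000000 in
theorem cls_hclo_299 : allC (cloChk dD dC dE dCl) 299 99 = true := by decide +kernel

end Cfsg.Agent.Helper9.Co2O

end
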