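import Mathlib
import Cfsg.Agent.Helper9.Co2O.Data

set_option autoImplicit false
set_option Elab.async false

/-! Kernel checks of the certificates, a part. -/

noncomputable section

namespace Cfsg.Agent.Helper9.Co2O

open Cfsg.Agent.Helper9.OutG Cfsg.Agent.Helper9.J3

set_option maxRecDepth 1000000 in
theorem tst_htst_50 : allC (testChk dD dC dE dCl dTs) 50 25 = true := by decide +kernel

set_option maxRecDepth 1000000 in
theorem tst_htst_51 : allC (testChk dD dC dE dCl dTs) 51 25 = true := by decide +kernel

set_option maxRecDepth 1000000 in
theorem tst_htst_52 : allC (testChk dD dC dE dCl dTs) 52 25 = true := by decide +kernel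

set_option maxRecDepth 1000000 in
theorem tst_htst_53 : allC (testChk dD dC dE dCl dTs) 53 25 = true := by decide +kernel

set_option maxRecDepth 1000000 in
theorem tst_htst_54 : allC (testChk dD dC dE dCl dTs) 54 25 = true := by decide +kernel

set_option maxRecDepth 1000000 in
theorem tst_htst_55 : allC (testChk dD dC dE dCl dTs) 55 25 = true := by decide +kernel

set_option maxRecDepth 1000000 in
theorem tst_htst_56 : allC (testChk dD dC dE dCl dTs) 56 25 = true := by decide +kernel

set_option maxRecDepth 1000000 in
theorem tst_htst_57 : allC (testChk dD dC dE dCl dTs) 57 25 = true := by decide +kernel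

set_option maxRecDepth 1000000 in
theorem tst_htst_58 : allC (testChk dD dC dE dCl dTs) 58 25 = true := by decide +kernel

set_option maxRecDepth 1000000 in
theorem tst_htst_59 : allC (testChk dD dC dE dCl dTs) 59 25 = true := by decide +kernel

set_option maxRecDepth 1000000 in
theorem tst_htst_60 : allC (testChk dD dC dE dCl dTs) 60 25 = true := by decide +kernel

set_option maxRecDepth 1000000 in
theorem tst_htst_61 : allC (testChk dD dC dE dCl dTs) 61 25 = true := by decide +kernel

set_option maxRecDepth 1000000 in
theorem tst_htst_62 : allC (testChk dD dC dE dCl dTs) 62 25 = true := by decide +kernel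

set_option maxRecDepth 1000000 in
theorem tst_htst_63 : allC (testChk dD dC dE dCl dTs) 63 25 = true := by decide +kernel

set_option maxRecDepth 1000000 in
theorem tst_htst_64 : allC (testChk dD dC dE dCl dTs) 64 25 = true := by decide +kernel

set_option maxRecDepth 1000000 in
theorem tst_htst_65 : allC (testChk dD dC dE dCl dTs) 65 25 = true := by decide +kernel

set_option maxRecDepth 1000000 in
theorem tst_htst_66 : allC (testChk dD dC dE dCl dTs) 66 25 = true := by decide +kernel

set_option maxRecDepth 1000000 in
theorem tst_htst_67 : allC (testChk dD dC dE dCl dTs) 67 25 = true := by decide +kernel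

set_option maxRecDepth 1000000 in
theorem tst_htst_68 : allC (testChk dD dC dE dCl dTs) 68 25 = true := by decide +kernel

set_option maxRecDepth 1000000 in
theorem tst_htst_69 : allC (testChk dD dC dE dCl dTs) 69 25 = true := by decide +kernel

set_option maxRecDepth 1000000 in
theorem tst_htst_70 : allC (testChk dD dC dE dCl dTs) 70 25 = true := by decide +kernel

set_option maxRecDepth 1000000 in
theorem tst_htst_71 : allC (testChk dD dC dE dCl dTs) 71 25 = true := by decide +kernel

set_option maxRecDepth 1000000 in
theorem tst_htst_72 : allC (testChk dD dC dE dCl dTs) 72 25 = true := by decide +kernel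

set_option maxRecDepth 1000000 in
theorem tst_htst_73 : allC (testChk dD dC dE dCl dTs) 73 25 = true := by decide +kernel

set_option maxRecDepth 1000000 in
theorem tst_htst_74 : allC (testChk dD dC dE dCl dTs) 74 25 = true := by decide +kernel

end Cfsg.Agent.Helper9.Co2O

end
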