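import Mathlib
import Cfsg.Agent.Helper9.Co2O.Data

set_option autoImplicit false
set_option Elab.async false

/-! Kernel checks of the certificates, a part. -/

noncomputable section

namespace Cfsg.Agent.Helper9.Co2O

open Cfsg.Agent.Helper9.OutG Cfsg.Agent.Helper9.J3

set_option maxRecDepth 1000000 in
theorem syl_wit_50 : allC (witChk dD dS) 50 2048 = true := by decide +kernel

set_option maxRecDepth 1000000 in
theorem syl_wit_51 : allC (witChk dD dS) 51 2048 = true := by decide +kernel

set_option maxRecDepth 1000000 in
theorem syl_wit_52 : allC (witChk dD dS) 52 2048 = true := by decide +kernel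

set_option maxRecDepth 1000000 in
theorem syl_wit_53 : allC (witChk dD dS) 53 2048 = true := by decide +kernel

set_option maxRecDepth 1000000 in
theorem syl_wit_54 : allC (witChk dD dS) 54 2048 = true := by decide +kernel

set_option maxRecDepth 1000000 in
theorem syl_wit_55 : allC (witChk dD dS) 55 2048 = true := by decide +kernel

set_option maxRecDepth 1000000 in
theorem syl_wit_56 : allC (witChk dD dS) 56 2048 = true := by decide +kernel

set_option maxRecDepth 1000000 in
theorem syl_wit_57 : allC (witChk dD dS) 57 2048 = true := by decide +kernel

set_option maxRecDepth 1000000 in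
theorem syl_wit_58 : allC (witChk dD dS) 58 2048 = true := by decide +kernel

set_option maxRecDepth 1000000 in
theorem syl_wit_59 : allC (witChk dD dS) 59 2048 = true := by decide +kernel

set_option maxRecDepth 1000000 in
theorem syl_wit_60 : allC (witChk dD dS) 60 2048 = true := by decide +kernel

set_option maxRecDepth 1000000 in
theorem syl_wit_61 : allC (witChk dD dS) 61 2048 = true := by decide +kernel

set_option maxRecDepth 1000000 in
theorem syl_wit_62 : allC (witChk dD dS) 62 2048 = true := by decide +kernel

set_option maxRecDepth 1000000 in
theorem syl_wit_63 : allC (witChk dD dS) 63 2048 = true := by decide +kernel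

set_option maxRecDepth 1000000 in
theorem syl_wit_64 : allC (witChk dD dS) 64 2048 = true := by decide +kernel

set_option maxRecDepth 1000000 in
theorem syl_wit_65 : allC (witChk dD dS) 65 2048 = true := by decide +kernel

set_option maxRecDepth 1000000 in
theorem syl_wit_66 : allC (witChk dD dS) 66 2048 = true := by decide +kernel

set_option maxRecDepth 1000000 in
theorem syl_wit_67 : allC (witChk dD dS) 67 2048 = true := by decide +kernel

set_option maxRecDepth 1000000 in
theorem syl_wit_68 : allC (witChk dD dS) 68 2048 = true := by decide +kernel

set_option maxRecDepth 1000000 in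
theorem syl_wit_69 : allC (witChk dD dS) 69 2048 = true := by decide +kernel

set_option maxRecDepth 1000000 in
theorem syl_wit_70 : allC (witChk dD dS) 70 2048 = true := by decide +kernel

set_option maxRecDepth 1000000 in
theorem syl_wit_71 : allC (witChk dD dS) 71 2048 = true := by decide +kernel

set_option maxRecDepth 1000000 in
theorem syl_wit_72 : allC (witChk dD dS) 72 2048 = true := by decide +kernel

set_option maxRecDepth 1000000 in
theorem syl_wit_73 : allC (witChk dD dS) 73 2048 = true := by decide +kernel

set_option maxRecDepth 1000000 in
theorem syl_wit_74 : allC (witChk dD dS) 74 2048 = true := by decide +kernel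

end Cfsg.Agent.Helper9.Co2O

end
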